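import Cfsg.Agent.ConwayType.BitsTwo

/-!
# Enumerating isometries of the plus type space of dimension eight over two elements

Codes of isometries are the lists of the bit masks of the images of the standard basis.
-/

set_option autoImplicit false

namespace CfsgLib.CoOneReduce

open CfsgLib.ConwayType

/-- The set of nonsingular bit masks. -/
def qSet : ℕ := 54518767989058627813427907899653103368520125748912612456443496272599911528584

/-- The form on bit masks. -/
def qN (n : ℕ) : Bool := qSet.testBit n

/-- The polar form on bit masks. -/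
def bN (u v : ℕ) : Bool := qN (u ^^^ v) ^^ qN u ^^ qN v

theorem qN_bits (v : V8) : qN v.bits = q8 v := rfl

theorem bN_bits (u v : V8) : bN u.bits v.bits = b8 u v := by rw [bN, ← bits_add]; rfl

/-- Combination of list entries selected by bits. -/
noncomputable def apN (l : List ℕ) : ℕ → ℕ :=
  List.rec (motive := fun _ => ℕ → ℕ) (fun _ => 0)
    (fun x _ ih n => Nat.xor (Nat.mul (Nat.mod n 2) x) (ih (Nat.shiftRight n 1))) l

theorem apN_nil (n : ℕ) : apN [] n = 0 := rfl

theorem apN_cons (x : ℕ) (l : List ℕ) (n : ℕ) :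
    apN (x :: l) n = (if n % 2 = 1 then x else 0) ^^^ apN l (n / 2) := by
  show (n % 2 * x) ^^^ apN l (n >>> 1) = _
  rw [Nat.shiftRight_eq_div_pow, pow_one]
  rcases Nat.mod_two_eq_zero_or_one n with h | h <;> simp [h]

theorem apN_map (l : List V8) : ∀ n, apN (l.map V8.bits) n = (bitsum l n).bits := by
  induction l with
  | nil => exact fun _ => rfl
  | cons x l ih =>
    intro n
    rw [List.map_cons, apN_cons, ih, bitsum, bits_add]
    split <;> rfl

/-- The identity code. -/
def idN : List ℕ := [1, 2, 4, 8, 16, 32, 64, 128]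

/-- The code of a map. -/
def enc (g : V8 → V8) : List ℕ := idN.map fun n => (g (mk8 n)).bits

/-- Composition on codes. -/
noncomputable def compN (A B : List ℕ) : List ℕ := B.map (apN A)

theorem enc_eq (g : V8 → V8) : enc g = (basis8.map g).map V8.bits := by
  simp [enc, basis8, idN]

theorem apN_enc {g : V8 → V8} (hg : IsIso8 g) (v : V8) : apN (enc g) v.bits = (g v).bits := by
  rw [enc_eq, apN_map, ← app8, hg.app8_code]

theorem enc_comp {g : V8 → V8} (hg : IsIso8 g) (h : V8 → V8) :
    enc (fun v => g (h v)) = compN (enc g) (enc h) := by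
  rw [compN, show enc h = idN.map (fun n => (h (mk8 n)).bits) from rfl, List.map_map]
  exact List.map_congr_left fun n _ => (apN_enc hg _).symm

theorem enc_id : enc (fun v => v) = idN := by decide

theorem enc_congr {g h : V8 → V8} (e : ∀ v, g v = h v) : enc g = enc h := by rw [funext e]

theorem enc_inj {g h : V8 → V8} (hg : IsIso8 g) (hh : IsIso8 h) (e : enc g = enc h) (v : V8) :
    g v = h v :=
  V8.ext_bits (by rw [← apN_enc hg, e, apN_enc hh])

/-- Members of a set of bit masks. -/
def bitsOf : ℕ → ℕ → ℕ → List ℕ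
  | 0, o, m => if m % 2 = 1 then [o] else []
  | k + 1, o, m => if m = 0 then [] else
      bitsOf k o (m % 2 ^ 2 ^ k) ++ bitsOf k (o + 2 ^ k) (m >>> 2 ^ k)

theorem mem_bitsOf : ∀ k o m i, i < 2 ^ k → m.testBit i = true → o + i ∈ bitsOf k o m
  | 0, o, m, i, hi, h => by
    obtain rfl : i = 0 := by simpa using hi
    rw [Nat.testBit_zero] at h
    rw [bitsOf, if_pos (by simpa using h)]
    simp
  | k + 1, o, m, i, hi, h => by
    rw [bitsOf, if_neg (fun e => by simp [e] at h)]
    rcases lt_or_ge i (2 ^ k) with hlt | hge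
    · exact List.mem_append_left _ (mem_bitsOf k o _ i hlt
        (by rw [Nat.testBit_mod_two_pow, decide_eq_true hlt, Bool.true_and, h]))
    · have hlt : i - 2 ^ k < 2 ^ k := by rw [pow_succ] at hi; omega
      have := mem_bitsOf k (o + 2 ^ k) (m >>> 2 ^ k) (i - 2 ^ k) hlt
        (by rw [Nat.testBit_shiftRight, Nat.add_sub_cancel' hge, h])
      rw [show o + 2 ^ k + (i - 2 ^ k) = o + i by omega] at this
      exact List.mem_append_right _ this

/-- The full set of masks. -/
def fullM : ℕ := 2 ^ 256 - 1

/-- The masks with a given bit. -/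
def colM : List ℕ := [0xcccccccccccccccccccccccccccccccccccccccccccccccccccccccccccccccc,
  0xaaaaaaaaaaaaaaaaaaaaaaaaaaaaaaaaaaaaaaaaaaaaaaaaaaaaaaaaaaaaaaaa,
  0xff00ff00ff00ff00ff00ff00ff00ff00ff00ff00ff00ff00ff00ff00ff00ff00,
  0xf0f0f0f0f0f0f0f0f0f0f0f0f0f0f0f0f0f0f0f0f0f0f0f0f0f0f0f0f0f0f0f0,
  0xffffffff00000000ffffffff00000000ffffffff00000000ffffffff00000000,
  0xffff0000ffff0000ffff0000ffff0000ffff0000ffff0000ffff0000ffff0000,
  0xffffffffffffffffffffffffffffffff00000000000000000000000000000000,
  0xffffffffffffffff0000000000000000ffffffffffffffff0000000000000000]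

/-- The masks not orthogonal to a given one. -/
noncomputable def bMask (u : ℕ) : ℕ := apN colM u

theorem bMask_basis : ∀ k < 8, ∀ v < 256, (colM.getD k 0).testBit v = bN (2 ^ k) v := by
  decide +kernel

theorem testBit_apN (lM : List ℕ) (lV : List V8) (w : V8) (hlen : lM.length = lV.length)
    (h : ∀ k < lM.length, (lM.getD k 0).testBit w.bits = b8 (lV.getD k 0) w) :
    ∀ n, (apN lM n).testBit w.bits = b8 (bitsum lV n) w := by
  induction lM generalizing lV with
  | nil =>
    intro n
    rw [List.length_eq_zero_iff.1 hlen.symm, apN_nil, bitsum, b8_zero_left, Nat.zero_testBit]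
  | cons x lM ih =>
    intro n
    obtain ⟨y, lV, rfl⟩ := List.exists_cons_of_length_eq_add_one (hlen.symm.trans List.length_cons)
    have h0 := h 0 (by simp)
    have ih' := ih lV (by simpa using hlen) (fun k hk => h (k + 1) (by simpa using hk)) (n / 2)
    simp only [List.getD_cons_zero] at h0
    rw [apN_cons, bitsum, Nat.testBit_xor, ih', b8_add_left]
    split <;> simp [h0, b8_zero_left]

theorem bMask_spec (u : ℕ) (hu : u < 256) (v : ℕ) (hv : v < 256) :
    (bMask u).testBit v = bN u v := by
  have h := testBit_apN colM basis8 (mk8 v) (by rfl) (fun k hk => by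
    have hb : (basis8.getD k 0).bits = 2 ^ k := by
      have : k < 8 := hk
      interval_cases k <;> rfl
    rw [bits_mk8 hv, bMask_basis k hk v hv, ← hb, ← bN_bits, bits_mk8 hv]) u
  have e := bitsum_basis8 (mk8 u)
  rw [bits_mk8 hu] at e
  rw [bits_mk8 hv, e, ← bN_bits, bits_mk8 hu, bits_mk8 hv] at h
  exact h

theorem testBit_fullM {v : ℕ} (hv : v < 256) : fullM.testBit v = true := by
  rw [fullM, Nat.testBit_two_pow_sub_one, decide_eq_true hv]

/-- Possible images of `v` given images already chosen. -/
noncomputable def candM : List (ℕ × ℕ) → ℕ → ℕ → ℕ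
  | [], v, m => m &&& if qN v then qSet else fullM ^^^ qSet
  | (a, b) :: d, v, m =>
    candM d v (if bN v a then m &&& bMask b else m &&& (fullM ^^^ bMask b))

/-- The maps of isometries on a list of vectors with prescribed sets of images. -/
noncomputable def enumImg : List (ℕ × ℕ) → List (ℕ × ℕ) → List (List ℕ)
  | [], d => [d.reverse.map Prod.snd]
  | (v, m) :: rest, d =>
    (bitsOf 8 0 (candM d v m)).flatMap fun w => enumImg rest ((v, w) :: d)

/-- A map on bit masks. -/
def onN (g : V8 → V8) (n : ℕ) : ℕ := (g (mk8 n)).bits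

theorem candM_spec {g : V8 → V8} (hg : IsIso8 g) {v : ℕ} (hv : v < 256) :
    ∀ (d : List (ℕ × ℕ)) (m : ℕ), (∀ p ∈ d, p.1 < 256 ∧ p.2 = onN g p.1) →
      m.testBit (onN g v) = true → (candM d v m).testBit (onN g v) = true
  | [], m, _, hm => by
    have hq : qN v = qN (onN g v) := by
      rw [onN, qN_bits, hg.quad, ← qN_bits, bits_mk8 hv]
    rw [candM, Nat.testBit_and, hm, Bool.true_and, hq]
    cases h : qN (onN g v) <;> simp only [Bool.false_eq_true, if_false, if_true]
    · rw [Nat.testBit_xor, show fullM.testBit (onN g v) = true from testBit_fullM (V8.bits_lt _),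
        show qSet.testBit _ = _ from h]
      rfl
    · exact h
  | (a, b) :: d, m, hd, hm => by
    obtain ⟨ha, hb⟩ := hd (a, b) List.mem_cons_self
    refine candM_spec hg hv d _ (fun p hp => hd p (List.mem_cons_of_mem _ hp)) ?_
    simp only at ha hb
    have h : (bMask b).testBit (onN g v) = bN v a := by
      rw [hb, onN, onN, bMask_spec _ (V8.bits_lt _) _ (V8.bits_lt _), bN_bits, hg.polar, b8_comm,
        ← bN_bits, bits_mk8 hv, bits_mk8 ha]
    have hf : fullM.testBit (onN g v) = true := testBit_fullM (V8.bits_lt _)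
    cases hba : bN v a <;> rw [hba] at h <;> simp [Nat.testBit_and, Nat.testBit_xor, hm, h, hf]

theorem mem_enumImg {g : V8 → V8} (hg : IsIso8 g) :
    ∀ (ps d : List (ℕ × ℕ)), (∀ p ∈ ps, p.1 < 256 ∧ p.2.testBit (onN g p.1) = true) →
      (∀ p ∈ d, p.1 < 256 ∧ p.2 = onN g p.1) →
      (d.reverse.map Prod.fst ++ ps.map Prod.fst).map (onN g) ∈ enumImg ps d
  | [], d, _, hd => by
    simp only [enumImg, List.map_nil, List.append_nil, List.mem_singleton, List.map_map]
    exact List.map_congr_left fun p hp => (hd p (List.mem_reverse.1 hp)).2.symm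
  | (v, m) :: rest, d, hps, hd => by
    obtain ⟨hv, hm⟩ := hps (v, m) List.mem_cons_self
    rw [enumImg, List.mem_flatMap]
    refine ⟨onN g v, ?_, ?_⟩
    · have := mem_bitsOf 8 0 _ (onN g v) (V8.bits_lt _) (candM_spec hg hv d m hd hm)
      rwa [Nat.zero_add] at this
    · have := mem_enumImg hg rest ((v, onN g v) :: d)
        (fun p hp => hps p (List.mem_cons_of_mem _ hp))
        (List.forall_mem_cons.2 ⟨⟨hv, rfl⟩, hd⟩)
      simpa using this

/-- The standard code from images of a basis, given coordinates of the standard basis. -/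
noncomputable def stdC (co img : List ℕ) : List ℕ := co.map (apN img)

theorem stdC_map {g : V8 → V8} (hg : IsIso8 g) {bas co : List ℕ} (hbas : ∀ n ∈ bas, n < 256)
    (hco : co.map (apN bas) = idN) : stdC co (bas.map (onN g)) = enc g := by
  have key : ∀ (b : List ℕ), (∀ n ∈ b, n < 256) → ∀ k, apN (b.map (onN g)) k = onN g (apN b k) ∧
      apN b k < 256 := by
    intro b
    induction b with
    | nil => exact fun _ _ => ⟨by simp [apN_nil, onN, show mk8 0 = (0 : V8) from rfl, hg.zero]; rfl, by simp [apN_nil]⟩
    | cons x b ih =>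
      intro hb k
      obtain ⟨h1, h2⟩ := ih (fun n hn => hb n (List.mem_cons_of_mem _ hn)) (k / 2)
      have hx : x < 256 := hb x List.mem_cons_self
      simp only [List.map_cons, apN_cons, h1]
      split
      · refine ⟨?_, Nat.xor_lt_two_pow (n := 8) hx h2⟩
        rw [onN, onN, ← bits_add, ← hg.add, onN]
        congr 2
        exact V8.ext_bits (by
          rw [bits_add, bits_mk8 hx, bits_mk8 h2, bits_mk8 (Nat.xor_lt_two_pow (n := 8) hx h2)])
      · simp [h2]
  rw [stdC, enc, ← hco, List.map_map]
  exact List.map_congr_left fun k _ => (key bas hbas k).1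

/-- The set of images allowed to a vector by a stabiliser condition. -/
noncomputable def stabMask (U0 U : List ℕ) (v : ℕ) : ℕ :=
  if U0.contains v then 2 ^ v
  else if U.contains v then (v :: U0.map (v ^^^ ·)).foldr (fun n m => m ||| 2 ^ n) 0
  else fullM

/-- Isometries commuting with a code, fixing `U0` and trivial on `U` modulo `U0`. -/
noncomputable def stabList (bas co U0 U F : List ℕ) : List (List ℕ) :=
  ((enumImg (bas.map fun v => (v, stabMask U0 U v)) []).map (stdC co)).filter fun g =>
    compN g F == compN F g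

theorem testBit_foldr_or (l : List ℕ) (i : ℕ) (h : i ∈ l) :
    (l.foldr (fun n m => m ||| 2 ^ n) 0).testBit i = true := by
  induction l with
  | nil => simp at h
  | cons x l ih =>
    rw [List.foldr_cons, Nat.testBit_or]
    rcases List.mem_cons.1 h with rfl | h
    · simp [Nat.testBit_two_pow_self]
    · simp [ih h]

theorem mem_stabList {g f : V8 → V8} (hg : IsIso8 g) (hf : IsIso8 f) {bas co U0 U : List ℕ}
    (hbas : ∀ n ∈ bas, n < 256) (hco : co.map (apN bas) = idN)
    (h0 : ∀ d ∈ U0, onN g d = d)
    (hU : ∀ u ∈ U, onN g u = u ∨ ∃ d ∈ U0, onN g u = u ^^^ d)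
    (hc : ∀ v, g (f v) = f (g v)) : enc g ∈ stabList bas co U0 U (enc f) := by
  rw [stabList, List.mem_filter, List.mem_map]
  refine ⟨⟨bas.map (onN g), ?_, stdC_map hg hbas hco⟩, ?_⟩
  · have := mem_enumImg hg (bas.map fun v => (v, stabMask U0 U v)) [] (fun p hp => by
      obtain ⟨v, hv, rfl⟩ := List.mem_map.1 hp
      refine ⟨hbas v hv, ?_⟩
      simp only [stabMask]
      split
      · next h => rw [h0 v (by simpa using h)]; exact Nat.testBit_two_pow_self
      · split
        · next h =>
          refine testBit_foldr_or _ _ ?_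
          rcases hU v (by simpa using h) with e | ⟨d, hd, e⟩ <;> rw [e]
          · exact List.mem_cons_self
          · exact List.mem_cons_of_mem _ (List.mem_map.2 ⟨d, hd, rfl⟩)
        · exact testBit_fullM (V8.bits_lt _)) (by simp)
    simpa [Function.comp_def] using this
  · rw [beq_iff_eq, ← enc_comp hg, ← enc_comp hf]
    exact enc_congr hc

/-- Adding a generator to a span. -/
noncomputable def addV (S : List ℕ) (x : ℕ) : List ℕ := if S.contains x then S else S ++ S.map (x ^^^ ·)

/-- The span of a list of bit masks. -/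
noncomputable def spanN : List ℕ → List ℕ
  | [] => [0]
  | x :: l => addV (spanN l) x

theorem mem_spanN : ∀ (l : List ℕ) (a : ℕ), a ∈ spanN l ↔ ∃ k, apN l k = a
  | [], a => by simp [spanN, apN_nil, eq_comm]
  | x :: l, a => by
    have ih := mem_spanN l
    constructor
    · intro h
      simp only [spanN, addV] at h
      split at h
      · obtain ⟨k, hk⟩ := (ih a).1 h
        exact ⟨2 * k, by rw [apN_cons, if_neg (by omega), Nat.mul_div_cancel_left _ (by norm_num), hk]; simp⟩
      · rcases List.mem_append.1 h with h | h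
        · obtain ⟨k, hk⟩ := (ih a).1 h
          exact ⟨2 * k, by rw [apN_cons, if_neg (by omega), Nat.mul_div_cancel_left _ (by norm_num), hk]; simp⟩
        · obtain ⟨b, hb, rfl⟩ := List.mem_map.1 h
          obtain ⟨k, hk⟩ := (ih b).1 hb
          exact ⟨2 * k + 1, by rw [apN_cons, if_pos (by omega), show (2 * k + 1) / 2 = k by omega, hk]⟩
    · rintro ⟨k, rfl⟩
      have hl : apN l (k / 2) ∈ spanN l := (ih _).2 ⟨_, rfl⟩
      simp only [spanN, addV, apN_cons]
      split
      · next hc =>
        obtain ⟨j, hj⟩ := (ih x).1 (by simpa using hc)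
        split
        · refine (ih _).2 ⟨j ^^^ k / 2, ?_⟩
          rw [← hj]
          exact apN_xor l j (k / 2)
        · simpa using hl
      · split
        · exact List.mem_append_right _ (List.mem_map.2 ⟨_, hl, rfl⟩)
        · exact List.mem_append_left _ (by simpa using hl)
where
  apN_xor : ∀ (l : List ℕ) (i j : ℕ), apN l (i ^^^ j) = apN l i ^^^ apN l j
    | [], _, _ => by simp [apN_nil]
    | x :: l, i, j => by
      simp only [apN_cons, Nat.xor_div_two, apN_xor l]
      have h : (i ^^^ j) % 2 = (i % 2) ^^^ (j % 2) := Nat.xor_mod_two_pow (n := 1)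
      rcases Nat.mod_two_eq_zero_or_one i with hi | hi <;>
        rcases Nat.mod_two_eq_zero_or_one j with hj | hj <;>
        simp [h, hi, hj, Nat.xor_assoc, Nat.xor_left_comm]

theorem spanN_nodup : ∀ l : List ℕ, (spanN l).Nodup
  | [] => List.nodup_singleton _
  | x :: l => by
    have ih := spanN_nodup l
    simp only [spanN, addV]
    split
    · exact ih
    · next hc =>
      refine List.nodup_append.2 ⟨ih, ih.map Nat.xor_right_injective, ?_⟩
      intro a ha b hb e
      subst e
      obtain ⟨c, hc', rfl⟩ := List.mem_map.1 hb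
      obtain ⟨i, hi⟩ := (mem_spanN l _).1 ha
      obtain ⟨j, hj⟩ := (mem_spanN l _).1 hc'
      refine hc ?_
      rw [List.contains_iff_mem, mem_spanN]
      refine ⟨i ^^^ j, ?_⟩
      rw [mem_spanN.apN_xor, hi, hj, Nat.xor_assoc, Nat.xor_self, Nat.xor_zero]

/-- Number of values of `g + 1` from the code. -/
noncomputable def wN (C : List ℕ) : ℕ := (spanN (idN.map fun e => apN C e ^^^ e)).length

theorem wN_enc {g : V8 → V8} (hg : IsIso8 g) :
    wN (enc g) = (Finset.univ.image fun v : V8 => g v + v).card := by
  classical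
  have hlist : (idN.map fun e => apN (enc g) e ^^^ e) =
      (basis8.map fun v => g v + v).map V8.bits := by
    rw [List.map_map, show idN = basis8.map V8.bits from rfl, List.map_map]
    exact List.map_congr_left fun v _ => by
      simp only [Function.comp_apply, bits_add, apN_enc hg]
  have hadd : ∀ u v, g (u + v) + (u + v) = (g u + u) + (g v + v) := fun u v => by
    rw [hg.add]; abel
  have h0 : g 0 + 0 = 0 := by rw [hg.zero, add_zero]
  rw [wN, hlist, ← List.toFinset_card_of_nodup (spanN_nodup _),
    ← Finset.card_image_of_injective (Finset.univ.image fun v : V8 => g v + v)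
      (fun a b => V8.ext_bits (u := a) (v := b))]
  refine congrArg Finset.card (Finset.ext fun n => ?_)
  simp only [List.mem_toFinset, mem_spanN, Finset.mem_image, Finset.mem_univ, true_and,
    apN_map, bitsum_map (f := fun v => g v + v) hadd h0]
  constructor
  · rintro ⟨k, rfl⟩
    exact ⟨_, ⟨_, rfl⟩, rfl⟩
  · rintro ⟨_, ⟨v, rfl⟩, rfl⟩
    exact ⟨v.bits, by rw [bitsum_basis8]⟩

/-- Reflection on bit masks. -/
def rfN (a v : ℕ) : ℕ := if bN v a then v ^^^ a else v

/-- A word in pairs of reflections on bit masks. -/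
def pwN : List (ℕ × ℕ) → ℕ → ℕ
  | [], v => v
  | p :: w, v => rfN (p.1 % 256) (rfN (p.2 % 256) (pwN w v))

theorem bits_rf (a v : V8) : (rf a v).bits = rfN a.bits v.bits := by
  simp only [rf, rfN, bN_bits]
  split <;> simp [bits_add]

theorem bits_pw : ∀ (w : List (ℕ × ℕ)) (v : V8), (pw w v).bits = pwN w v.bits
  | [], _ => rfl
  | p :: w, v => by
    rw [pw, pr, bits_rf, bits_rf, bits_pw w v, pwN]
    rfl

theorem enc_pw (w : List (ℕ × ℕ)) : enc (pw w) = idN.map (pwN w) := by
  refine List.map_congr_left fun n hn => ?_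
  rw [bits_pw, bits_mk8]
  simp only [idN, List.mem_cons, List.not_mem_nil, or_false] at hn
  omega

end CfsgLib.CoOneReduce
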