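import Cfsg.Agent.CoOneReduce.Bits
import Cfsg.Agent.CoOneReduce.Data

/-!
# Computed predicates on the representatives
-/

set_option autoImplicit false

noncomputable section

namespace CfsgLib.CoOneReduce

/-- A representative. -/
def repF (i : ℕ) : List ℕ := repCodes.getD i []

/-- The basis of its fixed space. -/
def repKb (i : ℕ) : List ℕ := repKbs.getD i []

/-- Preimages. -/
def repUs (i : ℕ) : List ℕ := repUss.getD i []

/-- Possible functionals. -/
def repXs (i : ℕ) : List ℕ := repXss.getD i []

/-- An adapted basis, for the functional with the given place. -/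
def repBas (i j : ℕ) : List ℕ := ((repBases.getD i []).getD j ([], [])).1

/-- Its coordinates. -/
def repCo (i j : ℕ) : List ℕ := ((repBases.getD i []).getD j ([], [])).2

/-- The functional with the given place. -/
def repX (i j : ℕ) : ℕ := (repXs i).getD j 0

/-- The kernel of a functional on the fixed space. -/
def kerList (F : List ℕ) (x : ℕ) : List ℕ :=
  (List.range 256).filter fun v => apN F v == v && !bN v x

/-- The image of `f + 1`. -/
def imList (F : List ℕ) : List ℕ := spanN (idN.map fun e => apN F e ^^^ e)

/-- Whether a functional vanishes on the fixed space. -/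
def phiZ (Kb : List ℕ) (x : ℕ) : Bool := Kb.all fun k => !bN k x

/-- Possible coordinates of the intersection, from the kernel `U`. -/
def candOf (U W : List ℕ) (pz : Bool) : List ℕ :=
  U.filter fun d => d != 0 && !qN d && (U.all fun u => !bN d u) && (pz || !W.contains d)

/-- The candidates for a representative and a functional. -/
def candL (i j : ℕ) : List ℕ :=
  candOf (kerList (repF i) (repX i j)) (imList (repF i)) (phiZ (repKb i) (repX i j))

/-- The stabiliser list of a representative. -/
def repStab (i j : ℕ) (U0 : List ℕ) : List (List ℕ) :=
  stabList (repBas i j) (repCo i j) U0 (kerList (repF i) (repX i j)) (repF i)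

/-- Lifts of a word. -/
def wordC (w : List (ℕ × ℕ)) : List ℕ := idN.map (pwN w)

/-- Whether every pair of a word is a pair of nonsingular vectors. -/
def wordOK (w : List (ℕ × ℕ)) : Bool := w.all fun p => qN (p.1 % 256) && qN (p.2 % 256)

/-- No two elements of the list have `F` as commutator. -/
def noPair (F : List ℕ) (L : List (List ℕ)) : Bool :=
  L.all fun a => L.all fun b => compN a b != compN (compN b a) F

/-- The images of the fourth flag vector. -/
def flagTops : List ℕ := [64, 65, 68, 69, 80, 81, 84, 85]

/-- The possible images of the basis vectors under the stabiliser of the standard flag, given the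
image of the fourth flag vector. -/
def flagImgs (r : ℕ) : List (ℕ × ℕ) :=
  [(1, 2 ^ 1), (4, 2 ^ 4 + 2 ^ 5), (16, 2 ^ 16 + 2 ^ 17 + 2 ^ 20 + 2 ^ 21),
   (64, 2 ^ flagTops.getD r 0), (2, fullM), (8, fullM), (32, fullM), (128, fullM)]

/-- Coordinates of the standard basis in that basis. -/
def flagCo : List ℕ := [1, 16, 2, 32, 4, 64, 8, 128]

/-- The codes of the stabiliser of the flag, by the image of the fourth flag vector. -/
def flagList (r : ℕ) : List (List ℕ) := (enumImg (flagImgs r) []).map (stdC flagCo)

/-- The checks on one part of the stabiliser of the flag. -/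
def flagCheck (r : ℕ) : Bool :=
  decide ((flagList r).length ≤ 512) && (flagList r).all fun C =>
    compN C C != idN || C == idN || invCert.any fun e => e.1 == C

/-- A code preserving the flag. -/
def flagOK (C : List ℕ) : Bool :=
  apN C 1 == 1 && [4, 5].contains (apN C 4) && [16, 17, 20, 21].contains (apN C 16) &&
    flagTops.contains (apN C 64)

/-- The concatenation of the words selected by bits. -/
def selWord : List (List (ℕ × ℕ)) → ℕ → List (ℕ × ℕ)
  | [], _ => []
  | w :: l, n => (if n % 2 = 1 then w else []) ++ selWord l (n / 2)

/-- The difference with the identity, packed. -/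
def packX : List ℕ → ℕ
  | [] => 0
  | x :: l => x ^^^ (packX l <<< 8)

/-- The packed difference with the identity of a code. -/
def diffC (C : List ℕ) : ℕ := packX (List.zipWith (· ^^^ ·) C idN)

/-- Positions of bits determining the differences. -/
def keyPos (k : ℕ) : List ℕ := if k = 0 then [10, 12, 14, 28, 30, 46] else [10, 12, 15, 28, 31, 47]

/-- Selected bits of a packed difference. -/
def selBits : List ℕ → ℕ → ℕ
  | [], _ => 0
  | p :: l, n => (if n.testBit p then 1 else 0) ^^^ (selBits l n <<< 1)

/-- Continue with the evaluated value of a number. -/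
def forceN : ℕ → (ℕ → Bool) → Bool
  | 0, k => k 0
  | m + 1, k => k (m + 1)

theorem forceN_eq (n : ℕ) (k : ℕ → Bool) : forceN n k = k n := by cases n <;> rfl

/-- Continue with the evaluated value of a list of numbers. -/
def forceL : List ℕ → (List ℕ → Bool) → Bool
  | [], k => k []
  | x :: l, k => forceN x fun y => forceL l fun r => k (y :: r)

theorem forceL_eq : ∀ (l : List ℕ) (k : List ℕ → Bool), forceL l k = k l
  | [], _ => rfl
  | x :: l, k => by rw [forceL, forceN_eq, forceL_eq l]

/-- Continue with the evaluated value of a list of codes. -/
def forceC : List (List ℕ) → (List (List ℕ) → Bool) → Bool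
  | [], k => k []
  | x :: l, k => forceL x fun y => forceC l fun r => k (y :: r)

theorem forceC_eq : ∀ (l : List (List ℕ)) (k : List (List ℕ) → Bool), forceC l k = k l
  | [], _ => rfl
  | x :: l, k => by rw [forceC, forceL_eq, forceC_eq l]

end CfsgLib.CoOneReduce
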