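import Cfsg.Agent.CoOneReduce.Defs

/-!
# A closure in the stabiliser of the first representative
-/

set_option autoImplicit false
set_option maxRecDepth 100000

noncomputable section

namespace CfsgLib.CoOneReduce

/-- Each entry leads to `baseElt` or to an earlier one by a commutator with a root. -/
def pathsOK : List (List ℕ) → List (List ℕ × List ℕ × ℕ) → Bool
  | _, [] => true
  | seen, (a, b, i) :: l =>
    seen.contains b && decide (i < rootWords.length) &&
      compN b (compN a (wordC (rootWords.getD i []))) == compN (wordC (rootWords.getD i [])) a &&
      pathsOK (a :: seen) l

/-- Each entry is a product or a conjugate of earlier ones. -/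
def opsOK : List (List ℕ) → List (List ℕ × ℕ × ℕ × ℕ) → Bool
  | _, [] => true
  | seen, (c, t, a, b) :: l =>
    (if t == 0 then decide (a < seen.length ∧ b < seen.length) &&
        compN (seen.getD a []) (seen.getD b []) == c
      else decide (a < rootWords.length ∧ b < seen.length) &&
        compN c (wordC (rootWords.getD a [])) == compN (wordC (rootWords.getD a [])) (seen.getD b [])) &&
      opsOK (seen ++ [c]) l

theorem paths_facts : pathsOK [baseElt] commPaths = true := by decide +kernel

theorem ops_facts : (opsOK [baseElt] closureOps &&
    decide ((baseElt :: closureOps.map Prod.fst).Nodup) && decide (32 < closureOps.length + 1))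
      = true := by
  decide +kernel

theorem stab_cover : ((repStab 0 0 (imList (repF 0))).all fun C =>
    C == idN || C == repF 0 || C == baseElt || commPaths.any fun e => e.1 == C) = true := by
  decide +kernel

end CfsgLib.CoOneReduce
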