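import Cfsg.Agent.CoOneReduce.Defs

/-!
# The stabiliser of a flag: size and involutions
-/

set_option autoImplicit false
set_option maxRecDepth 100000

noncomputable section

namespace CfsgLib.CoOneReduce

theorem flag_part0 : flagCheck 0 = true := by decide +kernel

theorem flag_part1 : flagCheck 1 = true := by decide +kernel

theorem flag_part2 : flagCheck 2 = true := by decide +kernel

theorem flag_part3 : flagCheck 3 = true := by decide +kernel

theorem invCert_facts : (invCert.all fun e => decide (e.2.1 < 5) && wordOK e.2.2 &&
    compN (wordC e.2.2) e.1 == compN (repF e.2.1) (wordC e.2.2)) = true := by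
  decide +kernel

end CfsgLib.CoOneReduce
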