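import Cfsg.Agent.CoOneReduce.Defs

/-!
# The stabiliser of a flag: size and involutions
-/

set_option autoImplicit false
set_option maxRecDepth 100000

noncomputable section

namespace CfsgLib.CoOneReduce

theorem flag_part4 : flagCheck 4 = true := by decide +kernel

theorem flag_part5 : flagCheck 5 = true := by decide +kernel

theorem flag_part6 : flagCheck 6 = true := by decide +kernel

theorem flag_part7 : flagCheck 7 = true := by decide +kernel

end CfsgLib.CoOneReduce
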