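import Cfsg.Agent.CoOneReduce.FactsQuad

/-!
# Stabilisers for the representatives moving many vectors
-/

set_option autoImplicit false
set_option maxRecDepth 100000

noncomputable section

namespace CfsgLib.CoOneReduce

/-- No elementary abelian group of order sixteen through `F` inside `L`. -/
def noSixteen (F : List ℕ) (L : List (List ℕ)) : Bool :=
  L.all fun g => g == F || compN g g != idN || !L.contains (compN g F) ||
    L.all fun h => h == F || h == g || h == compN g F || compN g h != compN h g ||
      !L.contains (compN h F) || !L.contains (compN g h) || !L.contains (compN (compN g h) F) ||
        L.all fun k => k == F || k == g || k == compN g F || k == h || k == compN h F ||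
          k == compN g h || k == compN (compN g h) F || compN g k != compN k g ||
          compN h k != compN k h || !L.contains (compN k F) || !L.contains (compN g k) ||
          !L.contains (compN (compN g k) F) || !L.contains (compN h k) ||
          !L.contains (compN (compN h k) F) || !L.contains (compN (compN g h) k) ||
          !L.contains (compN (compN (compN g h) k) F)

theorem four_lists : ((List.range 3).all fun k =>
    (repStab (k + 2) 0 []).all fun C => wN C != 16 || (rankFourLists.getD k []).contains C) = true := by
  decide +kernel

theorem four_diffs : ((List.range 2).all fun k =>
    (rankFourLists.getD k []).all (fun C => keyMask.testBit (selBits (keyPos k) (diffC C))) &&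
    (repStab (k + 2) 0 []).all fun C =>
      idN.all fun e => (imList (repF (k + 2))).contains (apN C e ^^^ e)) = true := by
  decide +kernel

theorem no_sixteen : ((List.range 3).all fun k =>
    noSixteen (repF (k + 2)) (rankFourLists.getD k [])) = true := by
  decide +kernel

end CfsgLib.CoOneReduce
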