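import Cfsg.Agent.CoOneReduce.Defs

/-!
# Commutators in the stabilisers, first half of the functionals
-/

set_option autoImplicit false
set_option maxRecDepth 100000

noncomputable section

namespace CfsgLib.CoOneReduce

theorem stab_pairA : ((List.range 2).all fun i => (List.range (repXs i).length).all fun j =>
    decide (8 ≤ j) || phiZ (repKb i) (repX i j) ||
      (candL i j).all fun d => forceC (repStab i j [d]) (noPair (repF i))) = true := by
  decide +kernel

end CfsgLib.CoOneReduce
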