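import Cfsg.Agent.CoOneReduce.Defs

/-!
# No quadratic map into the elements of rank four
-/

set_option autoImplicit false
set_option maxRecDepth 100000

noncomputable section

namespace CfsgLib.CoOneReduce

/-- The keys of the new products of a generator `d` with the products `ds`. -/
def newKeys (df : ℕ) (tw : ℕ → ℕ → Bool) (j d : ℕ) (ds : List ℕ) : List ℕ :=
  (List.range ds.length).map fun m => (if tw m j then df else 0) ^^^ d ^^^ ds.getD m 0

/-- No extension of the keys `ds` of `2 ^ j` products by `n` generators inside the mask `M`. -/
def noQuad (M df : ℕ) (tw : ℕ → ℕ → Bool) : ℕ → ℕ → List ℕ → Bool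
  | 0, _, _ => false
  | n + 1, j, ds => (bitsOf 6 0 M).all fun d =>
    (newKeys df tw j d ds).any (fun v => !M.testBit v) ||
      forceL (ds ++ newKeys df tw j d ds) (noQuad M df tw n (j + 1))

/-- The keys of the elements of rank four. -/
def keyMask : ℕ := 0x96665aaa3cccf000

/-- The pairing of the products of generators with a generator. -/
def twist (m j : ℕ) : Bool :=
  [(0, 1), (1, 0), (2, 3), (3, 2)].any fun p : ℕ × ℕ => p.2 == j && m.testBit p.1

theorem quad_keys : ((List.range 2).all fun k =>
    selBits (keyPos k) (diffC (repF (k + 2))) == selBits (keyPos 0) (diffC (repF 2))) = true := by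
  decide +kernel

theorem no_quad : noQuad keyMask (selBits (keyPos 0) (diffC (repF 2))) twist 4 0 [0] = true := by
  decide +kernel

end CfsgLib.CoOneReduce
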