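import Cfsg.Agent.CoOneReduce.Defs

/-!
# Facts on the representatives and the functionals
-/

set_option autoImplicit false
set_option maxRecDepth 100000

noncomputable section

namespace CfsgLib.CoOneReduce

/-- The basis spans the fixed space and starts with known images of `f + 1`; each functional
compatible with the form is given by one of the vectors. -/
theorem rep_basis : ((List.range 5).all fun i =>
    ((repKb i).all fun k => decide (k < 256) && apN (repF i) k == k) &&
    ((List.range 256).all fun v => apN (repF i) v != v || (spanN (repKb i)).contains v) &&
    decide ((repUs i).length ≤ (repKb i).length) &&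
    ((List.range (repUs i).length).all fun r =>
      decide ((repUs i).getD r 0 < 256) &&
        apN (repF i) ((repUs i).getD r 0) ^^^ (repUs i).getD r 0 == (repKb i).getD r 0) &&
    (List.range (2 ^ (repKb i).length)).all fun m =>
      !((List.range (repUs i).length).all fun r => m.testBit r == qN ((repKb i).getD r 0)) ||
        (repXs i).any fun x => (List.range (repKb i).length).all fun r =>
          bN ((repKb i).getD r 0) x == m.testBit r) = true := by
  decide +kernel

theorem rep_bases : ((List.range 5).all fun i => (repF i).all (fun n => decide (n < 256)) &&
    (List.range (repXs i).length).all fun j => decide (repX i j < 256) &&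
      (repBas i j).all (fun n => decide (n < 256)) &&
        (repCo i j).map (apN (repBas i j)) == idN) = true := by
  decide +kernel

theorem rep_small : ((List.range 2).all fun i => wN (repF i) == 4 &&
    (List.range (repXs i).length).all fun j =>
      let U := kerList (repF i) (repX i j)
      decide (32 ≤ U.length ∧ U.length ≤ 64) && (U.any fun u => U.any fun v => bN u v) &&
        if phiZ (repKb i) (repX i j) then (candL i j).all fun d => (imList (repF i)).contains d
        else (candL i j).all fun d => (candL i j).all fun d' => !(candL i j).contains (d ^^^ d'))
      = true := by
  decide +kernel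

theorem rep_large : ((List.range 2).all fun k => wN (repF (k + 2)) == 16 &&
    (repXs (k + 2)).length == 1 && phiZ (repKb (k + 2)) (repX (k + 2) 0) &&
    (kerList (repF (k + 2)) (repX (k + 2) 0)).length == 16 &&
    (kerList (repF (k + 2)) (repX (k + 2) 0)).all (fun u => (imList (repF (k + 2))).contains u) &&
    (orthWords.getD k []).all (fun w => wordOK w &&
      compN (wordC w) (repF (k + 2)) == compN (repF (k + 2)) (wordC w)) &&
    (imList (repF (k + 2))).all fun d => d == 0 || (orthWords.getD k []).any fun w =>
      apN (wordC w) d != d && (List.range 256).any fun u =>
        apN (repF (k + 2)) u ^^^ u == d && !bN u (apN (wordC w) d)) = true := by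
  decide +kernel

theorem rep_last : (wN (repF 4) == 16 && (repXs 4).length == 1 && !phiZ (repKb 4) (repX 4 0) &&
    (kerList (repF 4) (repX 4 0)).length == 8 &&
    (kerList (repF 4) (repX 4 0)).all (fun u => (imList (repF 4)).contains u) &&
    (candL 4 0) == []) = true := by
  decide +kernel

theorem rep_words : (rootWords.all (fun w => wordOK w &&
      compN (wordC w) (repF 0) == compN (repF 0) (wordC w)) &&
    (imList (repF 0)).all fun d => d == 0 || rootWords.any fun w => apN (wordC w) d != d) = true := by
  decide +kernel

theorem rep_quad : ((List.range 2).all fun k =>
    let F := repF (k + 2)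
    let us := quadVecs.getD k []
    us.length == 4 && us.all (fun u => decide (u < 256)) &&
    ((List.range 16).all fun m => (List.range 4).all fun j =>
      bN (apN us m) (apN F (us.getD j 0) ^^^ us.getD j 0) ==
        [(0, 1), (1, 0), (2, 3), (3, 2)].any fun p : ℕ × ℕ => p.2 == j && m.testBit p.1) &&
    (List.range 16).all fun m =>
      m == 0 || apN F (apN us m) ^^^ apN us m != 0) = true := by
  decide +kernel

/-- The images of the flag vectors. -/
def onFlag (C : List ℕ) : List ℕ := [1, 4, 16, 64].map (apN C)

theorem flag_words : (flagTopWords.all wordOK && flagLowWords.all wordOK &&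
    ((List.range 64).all fun m => flagOK (wordC (selWord flagTopWords m)) &&
      onFlag (wordC (selWord flagLowWords m)) == [1, 4, 16, 64]) &&
    decide (((List.range 64).map fun m => onFlag (wordC (selWord flagTopWords m))).Nodup) &&
    decide (((List.range 64).map fun m => wordC (selWord flagLowWords m)).Nodup)) = true := by
  decide +kernel

theorem rep_extra : ((List.range 5).all fun i => (List.range 256).all fun v =>
      (repKb i).any (fun k => bN v k) || (imList (repF i)).contains v) = true ∧
    ((List.range 2).all fun i => (List.range (repXs i).length).all fun j =>
      (!phiZ (repKb i) (repX i j) || (i == 0 && j == 0)) && (i == 0 || candL i j == [])) = true ∧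
    (imList (repF 0)).length = 4 ∧ (imList (repF 0)).Nodup ∧ (repXs 0).length = 16 := by
  decide +kernel

end CfsgLib.CoOneReduce
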