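import Cfsg.Agent.CoOneReduce.Defs

/-!
# Stabilisers for the representatives moving few vectors
-/

set_option autoImplicit false
set_option maxRecDepth 100000

noncomputable section

namespace CfsgLib.CoOneReduce

theorem stab_trivial : ((List.range 2).all fun i => (List.range (repXs i).length).all fun j =>
    decide ((repStab i j []).length ≤ 16) &&
      decide (((repStab i j []).filter fun C => [1, 4, 16].contains (wN C)).length ≤ 8)) = true := by
  decide +kernel

end CfsgLib.CoOneReduce
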