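import Cfsg.Agent.CoOneReduce.Pair
import Cfsg.Agent.CoOneReduce.Bits

/-!
# The centraliser in `Q` of a second conjugate, in coordinates
-/

set_option autoImplicit false
set_option linter.unusedSectionVars false

namespace CfsgLib.CoOneReduce

open CfsgLib.LargeExtraspecial CfsgLib.ConwayType

variable {G : Type*} [Group G] {z s g : G} {Q : Subgroup G} {π : G → V8}

/-- The coordinates of the intersection of `Q` with its conjugate. -/
noncomputable def interV (π : G → V8) (Q : Subgroup G) (g : G) : Finset V8 := by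
  classical
  exact Finset.univ.filter fun v => ∃ x ∈ interQ Q g, π x = v

theorem mem_interV {v : V8} : v ∈ interV π Q g ↔ ∃ x ∈ interQ Q g, π x = v := by
  simp [interV]

namespace IsPair

variable (P : IsPair z s g) (D : Data0 z Q π) (hwc : WClosed z Q)
include P D

theorem act_invol (v : V8) : D.act s (D.act s v) = v := by
  rw [← D.act_mul P.comm P.comm, P.s_mul D, D.act_one]

theorem commute_of_π {x y : G} (hx : x ∈ Q) (hy : y ∈ Q) (e : π x = π y) :
    x * s = s * x ↔ y * s = s * y := by
  rcases D.eq_or_eq_of_π_eq hx hy e with rfl | rfl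
  · rfl
  · have hsz : Commute s z := P.comm
    refine ⟨fun h => ((Commute.mul_left hsz.symm h)).eq, fun h => ?_⟩
    calc x * s = z⁻¹ * (z * x * s) := by group
      _ = (z⁻¹ * s) * (z * x) := by rw [h]; group
      _ = (s * z⁻¹) * (z * x) := by rw [hsz.symm.inv_left.eq]
      _ = s * x := by group

/-- An element of `Q` with fixed coordinates is fixed or multiplied by `z`. -/
theorem conj_fixed {x : G} (hx : x ∈ Q) (hf : D.act s (π x) = π x) :
    s * x * s⁻¹ = x ∨ s * x * s⁻¹ = z * x :=
  D.eq_or_eq_of_π_eq hx (D.sub.conj_mem P.comm hx) (by rw [← D.act_π P.comm hx, hf])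

theorem fixed_of_commute {x : G} (hx : x ∈ Q) (h : x * s = s * x) : D.act s (π x) = π x := by
  rw [D.act_π P.comm hx, ← h, mul_inv_cancel_right]

/-- A functional on the fixed vectors telling whether a lift commutes with `s`. -/
theorem exists_phi : ∃ φ : V8 → Bool,
    (∀ x ∈ Q, D.act s (π x) = π x → (x * s = s * x ↔ φ (π x) = false)) ∧
    (∀ u v, D.act s u = u → D.act s v = v → φ (u + v) = xor (φ u) (φ v)) ∧
    (∀ u, φ (D.act s u + u) = q8 (D.act s u + u)) := by
  classical
  refine ⟨fun v => !decide (D.sec v * s = s * D.sec v), fun x hx _ => ?_, fun u v hu hv => ?_,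
    fun u => ?_⟩
  · simp [P.commute_of_π D hx (D.sec_mem _) (D.π_sec (π x)).symm]
  · have hx := D.sec_mem u
    have hy := D.sec_mem v
    have key : ∀ x, s * x * s⁻¹ = x ↔ x * s = s * x := fun x => by
      rw [mul_inv_eq_iff_eq_mul, eq_comm]
    have hxy : (D.sec (u + v) * s = s * D.sec (u + v)) ↔
        s * (D.sec u * D.sec v) * s⁻¹ = D.sec u * D.sec v := by
      rw [key, P.commute_of_π D (D.sec_mem _) (mul_mem hx hy) (by
        rw [D.π_sec, D.map_mul _ hx _ hy, D.π_sec, D.π_sec])]
    have hm : s * (D.sec u * D.sec v) * s⁻¹ = (s * D.sec u * s⁻¹) * (s * D.sec v * s⁻¹) := by group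
    have hne : ∀ a : G, z * a ≠ a := fun a h => D.sub.ne_one (mul_eq_right.1 h)
    have hcz : Commute (D.sec u) z := D.Q_comm hx
    simp only [hxy, hm, ← key (D.sec u), ← key (D.sec v)]
    rcases P.conj_fixed D hx (by rw [D.π_sec, hu]) with e1 | e1 <;>
      rcases P.conj_fixed D hy (by rw [D.π_sec, hv]) with e2 | e2 <;> rw [e1, e2]
    · simp
    · rw [← mul_assoc, hcz.eq, mul_assoc z]
      simp [hne]
    · simp [mul_assoc z, hne]
    · rw [show z * D.sec u * (z * D.sec v) = D.sec u * D.sec v by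
        rw [← hcz.eq, mul_assoc (D.sec u), ← mul_assoc z, D.sub.mul_self, one_mul]]
      simp [hne]
  · have hy := D.sec_mem u
    have hsy := D.sub.conj_mem P.comm hy
    have hb : q8 (D.act s u + u) = b8 (D.act s u) u := by
      rw [q8_add, (D.act_iso P.comm).quad]
      cases q8 u <;> cases b8 (D.act s u) u <;> rfl
    have hc := D.commute_iff hsy hy
    rw [← D.act_π P.comm hy, D.π_sec] at hc
    have hm := P.commute_of_π D (D.sec_mem (D.act s u + u)) (mul_mem hsy hy) (by
      rw [D.π_sec, D.map_mul _ hsy _ hy, ← D.act_π P.comm hy, D.π_sec])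
    have e : s * D.sec u * s⁻¹ * D.sec u * s = s * (s * D.sec u * s⁻¹ * D.sec u) ↔
        s * D.sec u * s⁻¹ * D.sec u = D.sec u * (s * D.sec u * s⁻¹) := by
      rw [P.s_inv D]
      have h1 : s * (s * D.sec u * s * D.sec u) = D.sec u * (s * D.sec u * s) * s := by
        calc s * (s * D.sec u * s * D.sec u) = (s * s) * D.sec u * s * D.sec u := by group
          _ = D.sec u * s * D.sec u * (s * s) := by rw [P.s_mul D, one_mul, mul_one]
          _ = D.sec u * (s * D.sec u * s) * s := by group
      rw [h1, mul_left_inj]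
    simp only [hm, e, hc, hb]
    simp

/-- Twice as many elements of `Q` as coordinate vectors with a given property. -/
theorem card_lifts [Finite G] {A : Subgroup G} {p : V8 → Prop} [DecidablePred p]
    (hA : ∀ x, x ∈ A ↔ x ∈ Q ∧ p (π x)) :
    Nat.card A = 2 * (Finset.univ.filter p).card := by
  classical
  haveI := Fintype.ofFinite A
  have h2 : ∀ a : Bool, (if a then z else 1) ∈ Q := fun a => by
    cases a <;> simp [D.sub.z_mem]
  let F : Bool × (Finset.univ.filter p) → A := fun q =>
    ⟨(if q.1 then z else 1) * D.sec q.2, (hA _).2 ⟨mul_mem (h2 _) (D.sec_mem _), by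
      have := (Finset.mem_filter.1 q.2.2).2
      cases q.1 <;> simp [D.π_sec, D.π_z_mul (D.sec_mem _), this]⟩⟩
  have hF : Function.Bijective F := by
    constructor
    · rintro ⟨a, v⟩ ⟨b, w⟩ h
      have h' : (if a then z else 1) * D.sec (v : V8) = (if b then z else 1) * D.sec (w : V8) :=
        congrArg Subtype.val h
      have hv : (v : V8) = w := by
        have := congrArg π h'
        cases a <;> cases b <;> simpa [D.π_sec, D.π_z_mul (D.sec_mem _)] using this
      obtain rfl : v = w := Subtype.ext hv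
      have := mul_right_cancel h'
      cases a <;> cases b <;> simp_all [D.sub.ne_one, eq_comm (a := (1 : G))]
    · rintro ⟨x, hx⟩
      obtain ⟨hxQ, hp⟩ := (hA x).1 hx
      let v : ↥(Finset.univ.filter p) := ⟨π x, Finset.mem_filter.2 ⟨Finset.mem_univ _, hp⟩⟩
      rcases D.eq_or_eq_of_π_eq (D.sec_mem (π x)) hxQ (D.π_sec _) with e | e
      · exact ⟨(false, v), Subtype.ext (by simp [F, v, ← e])⟩
      · exact ⟨(true, v), Subtype.ext (by simp [F, v, ← e])⟩
  rw [← Nat.card_congr (Equiv.ofBijective F hF), Nat.card_prod, Nat.card_eq_finsetCard]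
  simp

include hwc

theorem card_interV : (interV π Q g).card = Nat.card (interQ Q g) := by
  classical
  rw [← Nat.card_eq_finsetCard]
  refine (Nat.card_congr (Equiv.ofBijective
    (fun x : interQ Q g => (⟨π x, mem_interV.2 ⟨x, x.2, rfl⟩⟩ : ↥(interV π Q g)))
    ⟨fun a b h => Subtype.ext (P.eq_of_mem_interQ D hwc a.2 b.2 (congrArg Subtype.val h)),
      fun v => ?_⟩)).symm
  obtain ⟨x, hx, e⟩ := mem_interV.1 v.2
  exact ⟨⟨x, hx⟩, Subtype.ext e⟩

omit D in
/-- If `z * s` is conjugate to `z`, the only commutator with `s` in the intersection is trivial. -/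
theorem interV_comm_eq_zero (D : Data0 z Q π) (hzs : ∃ h, h * z * h⁻¹ = z * s) {u : V8}
    (h : D.act s u + u ∈ interV π Q g) : D.act s u + u = 0 := by
  obtain ⟨d, hd, hdπ⟩ := mem_interV.1 h
  have hdP := (mem_interQ.1 hd).2
  set y := D.sec u with hy
  have hyQ : y ∈ Q := D.sec_mem u
  have hsy := D.sub.conj_mem P.comm hyQ
  have hx : y * s * y⁻¹ * s ∈ Q := by
    rw [show y * s * y⁻¹ * s = y * (s * y⁻¹ * s) by group]
    refine mul_mem hyQ ?_
    have := D.sub.conj_mem P.comm (inv_mem hyQ)
    rwa [P.s_inv D] at this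
  have hπ : π (y * s * y⁻¹ * s) = D.act s u + u := by
    rw [show y * s * y⁻¹ * s = y * (s * y * s⁻¹)⁻¹ by rw [P.s_inv D]; rw [mul_inv_rev, mul_inv_rev, P.s_inv D]; group,
      D.map_mul _ hyQ _ (inv_mem hsy), D.π_inv hsy, ← D.act_π P.comm hyQ, D.π_sec, add_comm]
  have hs : g⁻¹ * s * g ∈ Q := by rw [P.inv_s_g]; exact D.sub.z_mem
  rcases D.eq_or_eq_of_π_eq hx (mem_interQ.1 hd).1 (hπ.trans hdπ.symm) with e | e
  · have h1 := P.eq_s_of_conj hwc (h := y * g) (by
      rw [show y * g * z * (y * g)⁻¹ = d * s by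
        rw [e, mul_assoc _ s s, P.s_mul D, mul_one, ← P.eq]; group]
      have := mul_mem hdP hs
      rwa [show g⁻¹ * d * g * (g⁻¹ * s * g) = g⁻¹ * (d * s) * g by group] at this)
    rw [← hπ, show y * s * y⁻¹ * s = 1 by
      rw [show y * s * y⁻¹ = y * g * z * (y * g)⁻¹ by rw [← P.eq]; group, h1, P.s_mul D], D.π_one]
  · obtain ⟨k, hk⟩ := hzs
    have h1 := P.eq_s_of_conj hwc (h := y * k) (by
      rw [show y * k * z * (y * k)⁻¹ = d * s by
        rw [e, mul_assoc z, mul_assoc _ s s, P.s_mul D, mul_one,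
          show y * k * z * (y * k)⁻¹ = y * (k * z * k⁻¹) * y⁻¹ by group, hk,
          show y * (z * s) * y⁻¹ = (y * z) * s * y⁻¹ by group, D.Q_comm hyQ]
        group]
      have := mul_mem hdP hs
      rwa [show g⁻¹ * d * g * (g⁻¹ * s * g) = g⁻¹ * (d * s) * g by group] at this)
    rw [← hπ, ← D.π_z_mul hx, show z * (y * s * y⁻¹ * s) = 1 by
      rw [show z * (y * s * y⁻¹ * s) = (z * y) * s * y⁻¹ * s by group, ← D.Q_comm hyQ,
        show y * z * s * y⁻¹ = y * (z * s) * y⁻¹ by group, ← hk,
        show y * (k * z * k⁻¹) * y⁻¹ = y * k * z * (y * k)⁻¹ by group, h1, P.s_mul D], D.π_one]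

end IsPair

end CfsgLib.CoOneReduce
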