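import Cfsg.Agent.CoOneReduce.Setup
import Cfsg.Agent.CoOneReduce.FactsFlag
import Cfsg.Agent.CoOneReduce.FactsFlagB
import Cfsg.Agent.CoOneReduce.FactsRep

/-!
# The stabiliser of a flag is a Sylow subgroup and every involution is conjugate to a representative
-/

set_option autoImplicit false

namespace CfsgLib.CoOneReduce

open CfsgLib.LargeExtraspecial CfsgLib.ConwayType

theorem apN_enc' {f : V8 → V8} (hf : IsIso8 f) (n : ℕ) (hn : n < 256) :
    apN (enc f) n = onN f n := by
  have := apN_enc hf (mk8 n)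
  rwa [bits_mk8 hn] at this

theorem IsIso8.onN_xor {f : V8 → V8} (hf : IsIso8 f) {u v : ℕ} (hu : u < 256) (hv : v < 256) :
    onN f (u ^^^ v) = onN f u ^^^ onN f v := by
  rw [← apN_enc' hf _ (Nat.xor_lt_two_pow (n := 8) hu hv), ← apN_enc' hf u hu, ← apN_enc' hf v hv,
    mem_spanN.apN_xor]

theorem apN_zero : ∀ A : List ℕ, apN A 0 = 0
  | [] => rfl
  | a :: A => by simp [apN_cons, apN_zero A]

theorem apN_compN (A : List ℕ) : ∀ (B : List ℕ) (n : ℕ), apN (compN A B) n = apN A (apN B n)
  | [], n => by simp [compN, apN_nil, apN_zero]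
  | b :: B, n => by
    have := apN_compN A B (n / 2)
    simp only [compN, List.map_cons, apN_cons, mem_spanN.apN_xor] at this ⊢
    rw [this]
    split <;> simp [apN_zero]

theorem compN_assoc (A B C : List ℕ) : compN (compN A B) C = compN A (compN B C) := by
  simp only [compN, List.map_map]
  exact List.map_congr_left fun n _ => apN_compN A B n

theorem flag_closure : ∀ a ∈ [4, 5], ∀ b ∈ [16, 17, 20, 21], ∀ c ∈ flagTops,
    ([4, 5].all fun w => [4, 5].contains (apN [1, 0, a, 0, b, 0, c, 0] w)) = true ∧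
    ([16, 17, 20, 21].all fun w => [16, 17, 20, 21].contains (apN [1, 0, a, 0, b, 0, c, 0] w)) = true ∧
    (flagTops.all fun w => flagTops.contains (apN [1, 0, a, 0, b, 0, c, 0] w)) = true := by
  decide +kernel

theorem flagOK_apN {C : List ℕ} {a b c d e f g h : ℕ} (hC : C = [a, b, c, d, e, f, g, h]) (w : ℕ)
    (hw : w ∈ [4, 5] ++ [16, 17, 20, 21] ++ flagTops) :
    apN C w = apN [a, 0, c, 0, e, 0, g, 0] w := by
  subst hC
  simp only [flagTops, List.mem_append, List.mem_cons, List.not_mem_nil, or_false] at hw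
  rcases hw with ((rfl | rfl) | (rfl | rfl | rfl | rfl)) | (rfl | rfl | rfl | rfl | rfl | rfl | rfl | rfl) <;>
    simp [apN_cons, apN_nil]

theorem flagOK_comp {f g : V8 → V8} (hf : IsIso8 f) (hg : IsIso8 g) (h1 : flagOK (enc f) = true)
    (h2 : flagOK (enc g) = true) : flagOK (enc fun v => f (g v)) = true := by
  simp only [flagOK, Bool.and_eq_true, beq_iff_eq, List.contains_iff_mem] at h1 h2 ⊢
  have hcomp : ∀ n, n < 256 → apN (enc fun v => f (g v)) n = apN (enc f) (apN (enc g) n) := by
    intro n hn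
    rw [apN_enc' ⟨fun u v => by rw [hg.add, hf.add], fun v => by rw [hf.quad, hg.quad]⟩ n hn,
      apN_enc' hg n hn, apN_enc' hf (onN g n) (V8.bits_lt _), onN, onN, onN]
    exact congrArg (fun v => (f v).bits) (V8.ext_bits (bits_mk8 (V8.bits_lt _)).symm)
  obtain ⟨⟨⟨a1, a4⟩, a16⟩, a64⟩ := h1
  obtain ⟨⟨⟨b1, b4⟩, b16⟩, b64⟩ := h2
  have hl : ∀ w ∈ [4, 5] ++ [16, 17, 20, 21] ++ flagTops, apN (enc f) w =
      apN [1, 0, apN (enc f) 4, 0, apN (enc f) 16, 0, apN (enc f) 64, 0] w := by
    intro w hw
    have he : enc f = [onN f 1, onN f 2, onN f 4, onN f 8, onN f 16, onN f 32, onN f 64, onN f 128] :=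
      rfl
    rw [flagOK_apN he w hw, ← apN_enc' hf 1 (by norm_num), ← apN_enc' hf 4 (by norm_num),
      ← apN_enc' hf 16 (by norm_num), ← apN_enc' hf 64 (by norm_num), a1]
  obtain ⟨k4, k16, k64⟩ := flag_closure _ a4 _ a16 _ a64
  simp only [List.all_eq_true, List.contains_iff_mem] at k4 k16 k64
  rw [hcomp 1 (by norm_num), hcomp 4 (by norm_num), hcomp 16 (by norm_num), hcomp 64 (by norm_num),
    b1]
  refine ⟨⟨⟨a1, ?_⟩, ?_⟩, ?_⟩
  · rw [hl _ (by simp only [List.mem_append]; exact Or.inl (Or.inl b4))]; exact k4 _ b4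
  · rw [hl _ (by simp only [List.mem_append]; exact Or.inl (Or.inr b16))]; exact k16 _ b16
  · rw [hl _ (by simp only [List.mem_append]; exact Or.inr b64)]; exact k64 _ b64

theorem flag_parts : ∀ r < 8, flagCheck r = true := by
  intro r hr
  interval_cases r
  exacts [flag_part0, flag_part1, flag_part2, flag_part3, flag_part4, flag_part5, flag_part6,
    flag_part7]

theorem exists_flagList {f : V8 → V8} (hf : IsIso8 f) (h : flagOK (enc f) = true) :
    ∃ r < 8, enc f ∈ flagList r := by
  simp only [flagOK, Bool.and_eq_true, beq_iff_eq, List.contains_iff_mem] at h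
  obtain ⟨⟨⟨h1, h4⟩, h16⟩, h64⟩ := h
  rw [apN_enc' hf _ (by norm_num)] at h1 h4 h16 h64
  obtain ⟨r, hr, he⟩ : ∃ r < 8, flagTops.getD r 0 = onN f 64 := by
    simp only [flagTops, List.mem_cons, List.not_mem_nil, or_false] at h64
    rcases h64 with e | e | e | e | e | e | e | e
    exacts [⟨0, by norm_num, e.symm⟩, ⟨1, by norm_num, e.symm⟩, ⟨2, by norm_num, e.symm⟩,
      ⟨3, by norm_num, e.symm⟩, ⟨4, by norm_num, e.symm⟩, ⟨5, by norm_num, e.symm⟩,
      ⟨6, by norm_num, e.symm⟩, ⟨7, by norm_num, e.symm⟩]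
  refine ⟨r, hr, List.mem_map.2 ⟨[1, 4, 16, 64, 2, 8, 32, 128].map (onN f), ?_, ?_⟩⟩
  · have hall : ∀ n, fullM.testBit (onN f n) = true := fun n => testBit_fullM (V8.bits_lt _)
    simp only [List.mem_cons, List.not_mem_nil, or_false] at h4 h16
    have := mem_enumImg hf (flagImgs r) [] (fun p hp => by
      simp only [flagImgs, List.mem_cons, List.not_mem_nil, or_false] at hp
      rcases hp with rfl | rfl | rfl | rfl | rfl | rfl | rfl | rfl <;>
        refine ⟨by norm_num, ?_⟩
      · rw [h1]; rfl
      · rcases h4 with e | e <;> rw [e] <;> rfl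
      · rcases h16 with e | e | e | e <;> rw [e] <;> rfl
      · rw [he]; exact Nat.testBit_two_pow_self
      all_goals exact hall _) (by simp)
    simpa [flagImgs] using this
  · exact stdC_map hf (by decide) (by decide +kernel)

theorem onN_pw {f : V8 → V8} {w : List (ℕ × ℕ)} (h : ∀ v, f v = pw w v) : enc f = wordC w := by
  rw [enc_congr h, enc_pw, wordC]

theorem wordOK_pairs {w : List (ℕ × ℕ)} (h : wordOK w = true) : ∀ p ∈ w, okPair p = true :=
  List.all_eq_true.1 h

theorem wordOK_selWord : ∀ {l : List (List (ℕ × ℕ))}, l.all wordOK = true → ∀ n,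
    wordOK (selWord l n) = true
  | [], _, _ => rfl
  | x :: l, h, n => by
    simp only [List.all_cons, Bool.and_eq_true] at h
    rw [selWord, wordOK, List.all_append, Bool.and_eq_true]
    exact ⟨by split; exacts [h.1, rfl], wordOK_selWord h.2 (n / 2)⟩

namespace Data0

variable {G : Type*} [Group G] {z : G} {Q : Subgroup G} {π : G → V8} (D : Data0 z Q π)
include D

theorem enc_act_mul {c d : G} (hc : c * z = z * c) (hd : d * z = z * d) :
    enc (D.act (c * d)) = compN (enc (D.act c)) (enc (D.act d)) := by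
  rw [← enc_comp (D.act_iso hc)]; exact enc_congr (D.act_mul hc hd)

theorem enc_act_of_mem {c : G} (hc : c ∈ Q) : enc (D.act c) = idN := by
  rw [enc_congr (D.act_of_mem hc), enc_id]

/-- The elements fixing the standard flag. -/
def InFlag (c : G) : Prop := c * z = z * c ∧ flagOK (enc (D.act c)) = true

theorem inFlag_mul {c d : G} (hc : D.InFlag c) (hd : D.InFlag d) : D.InFlag (c * d) :=
  ⟨(Commute.mul_left hc.1 hd.1).eq, by
    rw [enc_congr (D.act_mul hc.1 hd.1)]
    exact flagOK_comp (D.act_iso hc.1) (D.act_iso hd.1) hc.2 hd.2⟩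

theorem inFlag_of_mem {c : G} (hc : c ∈ Q) : D.InFlag c :=
  ⟨D.Q_comm hc, by rw [D.enc_act_of_mem hc]; decide +kernel⟩

variable [Finite G]

theorem inFlag_pow {c : G} (hc : D.InFlag c) : ∀ k : ℕ, D.InFlag (c ^ k)
  | 0 => by rw [pow_zero]; exact D.inFlag_of_mem (one_mem Q)
  | k + 1 => by rw [pow_succ]; exact D.inFlag_mul (inFlag_pow hc k) hc

/-- The subgroup fixing the standard flag. -/
def flagS : Subgroup G where
  carrier := {c | D.InFlag c}
  one_mem' := D.inFlag_of_mem (one_mem Q)
  mul_mem' := fun hc hd => D.inFlag_mul hc hd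
  inv_mem' := fun {c} hc => by
    have h : c⁻¹ = c ^ (orderOf c - 1) := inv_eq_of_mul_eq_one_right (by
      rw [← pow_succ', Nat.sub_add_cancel (orderOf_pos c), pow_orderOf_eq_one])
    show D.InFlag c⁻¹
    rw [h]
    exact D.inFlag_pow hc _

theorem card_flagS : Nat.card D.flagS = 2 ^ 21 := by
  classical
  set A := (Finset.range 8).biUnion fun r => (flagList r).toFinset with hA
  have hAcard : A.card ≤ 4096 := by
    refine Finset.card_biUnion_le.trans ?_
    refine (Finset.sum_le_card_nsmul _ _ 512 fun r hr => ?_).trans (by simp)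
    have := flag_parts r (Finset.mem_range.1 hr)
    simp only [flagCheck, Bool.and_eq_true, decide_eq_true_eq] at this
    exact (List.toFinset_card_le _).trans this.1
  apply le_antisymm
  · -- at most one coset of `Q` for each code
    let F : D.flagS → A := fun c => ⟨enc (D.act (c : G)), by
      obtain ⟨r, hr, h⟩ := exists_flagList (D.act_iso c.2.1) c.2.2
      exact Finset.mem_biUnion.2 ⟨r, Finset.mem_range.2 hr, List.mem_toFinset.2 h⟩⟩
    choose r hr using fun y : ↥(Set.range F) => y.2
    let H : D.flagS → ↥(Set.range F) × Q := fun c => (⟨F c, c, rfl⟩,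
      ⟨(r ⟨F c, c, rfl⟩ : G)⁻¹ * c, by
        have e := congrArg Subtype.val (hr ⟨F c, c, rfl⟩)
        have h1 := (r ⟨F c, c, rfl⟩).2.1
        refine D.mem_of_act (Commute.mul_left (Commute.inv_left h1) c.2.1).eq fun v => ?_
        rw [D.act_mul (Commute.inv_left h1).eq c.2.1,
          ← enc_inj (D.act_iso h1) (D.act_iso c.2.1) e v, (D.act_cancel h1 v).1]⟩)
    have hH : Function.Injective H := fun a b h => by
      simp only [H, Prod.mk.injEq] at h
      obtain ⟨h1, h2⟩ := h
      have h2' := congrArg Subtype.val h2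
      simp only at h2'
      rw [h1] at h2'
      exact Subtype.ext (mul_left_cancel h2')
    refine (Nat.card_le_card_of_injective H hH).trans ?_
    rw [Nat.card_prod, D.card]
    have : Nat.card ↥(Set.range F) ≤ 4096 :=
      ((Nat.card_le_card_of_injective Subtype.val Subtype.val_injective).trans
        (Nat.card_eq_finsetCard A).le).trans hAcard
    omega
  · -- products of lifts of the words with `Q`
    have hw := flag_words
    simp only [Bool.and_eq_true, List.all_eq_true, beq_iff_eq, decide_eq_true_eq] at hw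
    obtain ⟨⟨⟨⟨hok1, hok2⟩, hflag⟩, hnd1⟩, hnd2⟩ := hw
    have hl1 : flagTopWords.all wordOK = true := List.all_eq_true.2 hok1
    have hl2 : flagLowWords.all wordOK = true := List.all_eq_true.2 hok2
    choose xa hxa hxav using fun m : Fin 64 =>
      D.exists_pw (selWord flagTopWords m) (wordOK_pairs (wordOK_selWord hl1 m))
    choose ya hya hyav using fun m : Fin 64 =>
      D.exists_pw (selWord flagLowWords m) (wordOK_pairs (wordOK_selWord hl2 m))
    have hxc := fun m : Fin 64 => onN_pw (hxav m)
    have hyc := fun m : Fin 64 => onN_pw (hyav m)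
    have hxy : ∀ m : Fin 64, D.InFlag (xa m) ∧ D.InFlag (ya m) := fun m => by
      obtain ⟨h1, h2⟩ := hflag m (List.mem_range.2 m.2)
      refine ⟨⟨hxa m, by rw [hxc]; exact h1⟩, hya m, ?_⟩
      rw [hyc]
      simp only [onFlag, List.map_cons, List.map_nil, List.cons.injEq, and_true] at h2
      obtain ⟨e1, e4, e16, e64⟩ := h2
      simp only [flagOK, e1, e4, e16, e64]
      decide
    let M : Fin 64 × Fin 64 × Q → D.flagS := fun p =>
      ⟨xa p.1 * (ya p.2.1 * (p.2.2 : G)),
        D.inFlag_mul (hxy _).1 (D.inFlag_mul (hxy _).2 (D.inFlag_of_mem p.2.2.2))⟩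
    have hM : Function.Injective M := fun p p' h => by
      obtain ⟨a, b, q⟩ := p
      obtain ⟨a', b', q'⟩ := p'
      have h' : xa a * (ya b * (q : G)) = xa a' * (ya b' * (q' : G)) := congrArg Subtype.val h
      have hcode : ∀ (a b : Fin 64) (q : Q), enc (D.act (xa a * (ya b * (q : G)))) =
          compN (wordC (selWord flagTopWords a)) (wordC (selWord flagLowWords b)) := fun a b q => by
        rw [← hxc, ← hyc, D.enc_act_mul (hxa a) (Commute.mul_left (hya b) (D.Q_comm q.2)).eq,
          D.enc_act_mul (hya b) (D.Q_comm q.2), D.enc_act_of_mem q.2]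
        refine congrArg (compN _) ?_
        rw [← enc_id, ← enc_comp (D.act_iso (hya b))]
      have e := congrArg (fun x => enc (D.act x)) h'
      simp only [hcode] at e
      have hfl : ∀ a b : Fin 64, onFlag (compN (wordC (selWord flagTopWords a))
          (wordC (selWord flagLowWords b))) = onFlag (wordC (selWord flagTopWords a)) := fun a b => by
        rw [← hxc, ← hyc, ← enc_comp (D.act_iso (hxa a))]
        have h2 := (hflag b (List.mem_range.2 b.2)).2
        rw [← hyc] at h2
        simp only [onFlag, List.map_cons, List.map_nil, List.cons.injEq, and_true] at h2 ⊢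
        have hiso : IsIso8 (fun v => D.act (xa a) (D.act (ya b) v)) :=
          ⟨fun u v => by rw [(D.act_iso (hya b)).add, (D.act_iso (hxa a)).add],
            fun v => by rw [(D.act_iso (hxa a)).quad, (D.act_iso (hya b)).quad]⟩
        have key : ∀ n, n < 256 → apN (enc (D.act (ya b))) n = n →
            apN (enc fun v => D.act (xa a) (D.act (ya b) v)) n = apN (enc (D.act (xa a))) n := by
          intro n hn e
          rw [apN_enc' (D.act_iso (hya b)) n hn] at e
          rw [apN_enc' hiso n hn, apN_enc' (D.act_iso (hxa a)) n hn, onN, onN]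
          exact congrArg (fun v => (D.act (xa a) v).bits) (V8.ext_bits (e.trans (bits_mk8 hn).symm))
        exact ⟨key 1 (by norm_num) h2.1, key 4 (by norm_num) h2.2.1, key 16 (by norm_num) h2.2.2.1,
          key 64 (by norm_num) h2.2.2.2⟩
      have haa : a = a' := by
        refine Fin.ext (List.inj_on_of_nodup_map hnd1 (List.mem_range.2 a.2) (List.mem_range.2 a'.2) ?_)
        show onFlag _ = onFlag _
        rw [← hfl a b, e, hfl]
      subst haa
      have h2 : ya b * (q : G) = ya b' * (q' : G) := mul_left_cancel h'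
      have hbb : b = b' := by
        refine Fin.ext (List.inj_on_of_nodup_map hnd2 (List.mem_range.2 b.2) (List.mem_range.2 b'.2) ?_)
        show wordC _ = wordC _
        rw [← hyc, ← hyc]
        refine enc_congr fun v => ?_
        have := congrArg (fun x => D.act x v) h2
        simpa [D.act_mul (hya _) (D.Q_comm q.2), D.act_mul (hya _) (D.Q_comm q'.2),
          D.act_of_mem q.2, D.act_of_mem q'.2] using this
      subst hbb
      rw [Subtype.ext (mul_left_cancel h2)]
    have := Nat.card_le_card_of_injective M hM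
    rw [Nat.card_prod, Nat.card_prod, D.card, Nat.card_fin] at this
    omega

/-- Every involution of the centraliser outside `Q` is conjugate in it to one acting as one of the
representatives. -/
theorem exists_rep_conj {x : G} (hx : x * z = z * x) (h2 : x * x = 1) (hxQ : x ∉ Q) :
    ∃ c, c * z = z * c ∧ ∃ i < 5, enc (D.act (c * x * c⁻¹)) = repF i := by
  classical
  have : Fact (Nat.Prime 2) := ⟨Nat.prime_two⟩
  set C := Subgroup.centralizer ({z} : Set G) with hC
  have hle : D.flagS ≤ C := fun h hh => Subgroup.mem_centralizer_singleton_iff.2 hh.1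
  have hfac : (Nat.card C).factorization 2 = 21 := by
    rw [D.card_cent, Nat.factorization_mul (by norm_num) (by norm_num), Finsupp.add_apply,
      Nat.Prime.factorization_pow Nat.prime_two, Finsupp.single_eq_same,
      Nat.factorization_eq_zero_of_not_dvd (by norm_num : ¬ 2 ∣ 42525)]
  let S : Sylow 2 C := Sylow.ofCard (D.flagS.subgroupOf C) (by
    rw [Nat.card_congr (Subgroup.subgroupOfEquivOfLe hle).toEquiv, D.card_flagS, hfac])
  let x' : C := ⟨x, Subgroup.mem_centralizer_singleton_iff.2 hx⟩
  have hp : IsPGroup 2 (Subgroup.zpowers x') := by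
    have : x' ^ 2 = 1 := Subtype.ext (by rw [SubgroupClass.coe_pow, pow_two]; exact h2)
    rintro ⟨g, k, rfl⟩
    refine ⟨1, Subtype.ext ?_⟩
    show (x' ^ k) ^ (2 ^ 1) = 1
    rw [pow_one, ← zpow_natCast, ← zpow_mul, mul_comm, zpow_mul, zpow_natCast, this, one_zpow]
  obtain ⟨T, hT⟩ := hp.exists_le_sylow
  obtain ⟨d, hd⟩ := MulAction.exists_smul_eq C T S
  have hmem : d * x' * d⁻¹ ∈ (S : Subgroup C) := by
    rw [← hd]; exact ⟨x', hT (Subgroup.mem_zpowers _), rfl⟩
  have hy : D.InFlag ((d : G) * x * (d : G)⁻¹) := hmem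
  set y := (d : G) * x * (d : G)⁻¹ with hydef
  have hdz : (d : G) * z = z * d := Subgroup.mem_centralizer_singleton_iff.1 d.2
  obtain ⟨r, hr, hl⟩ := exists_flagList (D.act_iso hy.1) hy.2
  have hchk := flag_parts r hr
  simp only [flagCheck, Bool.and_eq_true, List.all_eq_true, Bool.or_eq_true, List.any_eq_true,
    beq_iff_eq, bne_iff_ne] at hchk
  have hyy : compN (enc (D.act y)) (enc (D.act y)) = idN := by
    rw [← D.enc_act_mul hy.1 hy.1, show y * y = (d : G) * (x * x) * (d : G)⁻¹ by rw [hydef]; group,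
      h2, mul_one, mul_inv_cancel, D.enc_act_of_mem (one_mem Q)]
  rcases hchk.2 _ hl with (h | h) | ⟨e, he, hey⟩
  · exact absurd hyy h
  · refine absurd ?_ hxQ
    have hyQ : y ∈ Q := D.mem_of_act hy.1 fun v =>
      enc_inj (D.act_iso hy.1) ⟨fun _ _ => rfl, fun _ => rfl⟩ (h.trans enc_id.symm) v
    have := D.sub.conj_mem (Commute.inv_left hdz).eq hyQ
    rwa [show (d : G)⁻¹ * y * (d : G)⁻¹⁻¹ = x by rw [hydef]; group] at this
  · have hc := List.all_eq_true.1 invCert_facts e he
    simp only [Bool.and_eq_true, beq_iff_eq, decide_eq_true_eq] at hc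
    obtain ⟨⟨hi, hw⟩, heq⟩ := hc
    obtain ⟨k, hk, hkv⟩ := D.exists_pw e.2.2 (wordOK_pairs hw)
    refine ⟨k * d, (Commute.mul_left hk hdz).eq, e.2.1, hi, ?_⟩
    rw [hey, ← onN_pw hkv] at heq
    rw [show k * d * x * (k * d)⁻¹ = k * y * k⁻¹ by rw [hydef]; group,
      D.enc_act_mul (Commute.mul_left hk hy.1).eq (Commute.inv_left hk).eq, D.enc_act_mul hk hy.1,
      heq]
    have hkk : compN (enc (D.act k)) (enc (D.act k⁻¹)) = idN := by
      rw [← D.enc_act_mul hk (Commute.inv_left hk).eq, mul_inv_cancel, D.enc_act_of_mem (one_mem Q)]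
    rw [compN_assoc, hkk]
    have : ∀ e < 5, compN (repF e) idN = repF e := by decide +kernel
    exact this _ hi

end Data0

end CfsgLib.CoOneReduce
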