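import Cfsg.Agent.CoOneReduce.Small
import Cfsg.Agent.CoOneReduce.FactsFour

/-!
# No second conjugate moves many vectors either
-/

set_option autoImplicit false
set_option linter.unusedSectionVars false

namespace CfsgLib.CoOneReduce

open CfsgLib.LargeExtraspecial CfsgLib.ConwayType

variable {G : Type*} [Group G] [Finite G] {z : G} {Q : Subgroup G} {π : G → V8}

theorem packX_xor : ∀ (a b : List ℕ), a.length = b.length →
    packX (List.zipWith (· ^^^ ·) a b) = packX a ^^^ packX b
  | [], [], _ => by simp [packX]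
  | x :: a, y :: b, h => by
    simp only [List.zipWith_cons_cons, packX, packX_xor a b (by simpa using h),
      Nat.shiftLeft_xor_distrib]
    simp [Nat.xor_assoc, Nat.xor_left_comm]

theorem selBits_xor : ∀ (l : List ℕ) (a b : ℕ), selBits l (a ^^^ b) = selBits l a ^^^ selBits l b
  | [], _, _ => by simp [selBits]
  | p :: l, a, b => by
    simp only [selBits, selBits_xor l a b, Nat.shiftLeft_xor_distrib, Nat.testBit_xor]
    cases a.testBit p <;> cases b.testBit p <;> simp [Nat.xor_assoc, Nat.xor_left_comm]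

theorem noQuad_false (df : ℕ) (K : ℕ → ℕ) :
    ∀ n j, (∀ l, l < j + n → ∀ m, m < 2 ^ l →
      K (m + 2 ^ l) = (if twist m l then df else 0) ^^^ K (2 ^ l) ^^^ K m) →
    (∀ m, m ≠ 0 → m < 2 ^ (j + n) → keyMask.testBit (K m) = true) →
    noQuad keyMask df twist n j ((List.range (2 ^ j)).map K) = true → False
  | 0, j, _, _, h => by simp [noQuad] at h
  | n + 1, j, hrec, hM, h => by
    have hpow : 2 ^ (j + 1) = 2 ^ j + 2 ^ j := by rw [pow_succ]; omega
    have hle : 2 ^ (j + 1) ≤ 2 ^ (j + (n + 1)) := Nat.pow_le_pow_right (by norm_num) (by omega)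
    have hd : keyMask.testBit (K (2 ^ j)) = true :=
      hM _ (Nat.two_pow_pos j).ne' (by have := Nat.two_pow_pos j; omega)
    have hlt : K (2 ^ j) < 2 ^ 6 := by
      by_contra! hge
      rw [Nat.testBit_lt_two_pow (lt_of_lt_of_le (show keyMask < 2 ^ 2 ^ 6 by decide +kernel)
        (Nat.pow_le_pow_right (by norm_num) hge))] at hd
      exact absurd hd (by decide)
    simp only [noQuad, List.all_eq_true] at h
    have h := h (K (2 ^ j)) (by
      have := mem_bitsOf 6 0 keyMask _ hlt hd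
      rwa [Nat.zero_add] at this)
    have hnew : newKeys df twist j (K (2 ^ j)) ((List.range (2 ^ j)).map K) =
        (List.range (2 ^ j)).map fun m => K (m + 2 ^ j) := by
      rw [newKeys, List.length_map, List.length_range]
      refine List.map_congr_left fun m hm => ?_
      rw [List.mem_range] at hm
      rw [hrec j (by omega) m hm, List.getD_eq_getElem _ _ (by simpa using hm)]
      simp
    rw [hnew, Bool.or_eq_true, forceL_eq] at h
    rcases h with h | h
    · simp only [List.any_eq_true, List.mem_map, List.mem_range, Bool.not_eq_true'] at h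
      obtain ⟨_, ⟨m, hm, rfl⟩, hv⟩ := h
      rw [hM _ (by have := Nat.two_pow_pos j; omega) (by omega)] at hv
      exact absurd hv (by decide)
    · refine noQuad_false df K n (j + 1) (fun l hl => hrec l (by omega))
        (fun m h0 h1 => hM m h0 (by rwa [show j + 1 + n = j + (n + 1) by omega] at h1)) ?_
      rwa [hpow, List.range_add, List.map_append, List.map_map,
        show (List.range (2 ^ j)).map (K ∘ fun x => 2 ^ j + x) =
          (List.range (2 ^ j)).map (fun m => K (m + 2 ^ j)) from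
          List.map_congr_left fun m _ => by rw [Function.comp_apply, Nat.add_comm]]

namespace Normal

variable {s g : G} {i j : ℕ} {D : Data0 z Q π} (N : Normal D s g i j) (hwc : WClosed z Q)
include N hwc

/-- The facts on a representative moving many vectors, with trivial intersection. -/
theorem large_facts : 2 ≤ i ∧ j = 0 ∧ Nat.card (interQ Q g) = 1 ∧
    ∀ n ∈ centP Q z g, D.code n ∈ repStab i 0 [] := by
  have h := N.pair.card_centQ_lt D hwc
  have hj : 2 ≤ i ∧ j = 0 := by rcases N.kind with h' | h' | h' <;> omega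
  obtain ⟨hi, rfl⟩ := hj
  have h1 := N.pair.interQ_trivial D hwc h
  refine ⟨hi, rfl, h1, fun n hn =>
    N.mem_repStab hwc (fun d hd => absurd hd List.not_mem_nil) (fun x hx => ?_) hn⟩
  rw [Subgroup.card_eq_one.1 h1, Subgroup.mem_bot] at hx
  exact Or.inl (hx ▸ D.π_one)

theorem no_sixteen_partner (h16 : Nat.card (centQ Q (g⁻¹ * z * g)) = 16) : False := by
  classical
  obtain ⟨hi, rfl, h1, hmem⟩ := N.large_facts hwc
  obtain ⟨k, hk, rfl⟩ : ∃ k < 3, k + 2 = i := ⟨i - 2, by have := N.hi; omega, by omega⟩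
  set L := rankFourLists.getD k [] with hLdef
  set S := D.code '' (centP Q z g : Set G) with hS
  have hcard : Nat.card ↥S = 16 := by
    rw [← h16, ← N.pair.card_centP D, ← N.pair.card_codes D hwc, h1, mul_one]
  have hF : repF (k + 2) ∈ S := ⟨s, N.pair.s_mem_centP D, N.code⟩
  have hid : idN ∈ S := ⟨1, one_mem _, D.code_one⟩
  have hmul : ∀ A ∈ S, ∀ B ∈ S, compN A B ∈ S := by
    rintro _ ⟨n, hn, rfl⟩ _ ⟨m, hm, rfl⟩
    exact ⟨n * m, mul_mem hn hm, D.code_mul (mem_centP.1 hn).2 (mem_centP.1 hm).2⟩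
  have hsq : ∀ A ∈ S, compN A A = idN ∧ compN A idN = A ∧ compN idN A = A := by
    rintro _ ⟨n, hn, rfl⟩
    refine ⟨?_, compN_idN (length_enc _), ?_⟩
    · rcases N.pair.wN_of_partner D hwc h16 hn with e | e | ⟨p, hp, e⟩ <;> rw [e]
      · decide +kernel
      · exact N.pair.code_s_sq D
      · exact hp.code_s_sq D
    · rw [← D.code_one, ← D.code_mul (by simp) (mem_centP.1 hn).2, one_mul]
  have inL : ∀ A ∈ S, A ≠ idN → L.contains A = true := by
    rintro _ ⟨n, hn, rfl⟩ hne
    have hw : wN (D.code n) = 16 := by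
      have hs : wN (D.code s) = 16 := by rw [N.wN_code, if_neg (by omega)]
      rcases N.pair.wN_of_partner D hwc h16 hn with e | e | ⟨p, hp, e⟩
      · exact absurd e hne
      · rw [e, hs]
      · rcases hp.wN_mem D hwc with ⟨-, h⟩ | h
        · have := hp.card_centQ_lt D hwc; omega
        · rw [e, h]
    have := List.all_eq_true.1 (List.all_eq_true.1 four_lists k (List.mem_range.2 hk)) _ (hmem n hn)
    simp only [hw, bne_self_eq_false, Bool.false_or] at this
    exact this
  have ne_id : ∀ A ∈ S, ∀ B ∈ S, A ≠ B → compN A B ≠ idN := by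
    intro A hA B hB hne e
    refine hne ?_
    calc A = compN A (compN B B) := by rw [(hsq B hB).1, (hsq A hA).2.1]
      _ = B := by rw [← compN_assoc, e, (hsq B hB).2.2]
  have hcomm : ∀ A ∈ S, ∀ B ∈ S, compN A B = compN B A := by
    intro A hA B hB
    have hAB := hmul A hA B hB
    have hBA := hmul B hB A hA
    by_contra hne
    refine ne_id _ hAB _ hBA hne ?_
    rw [compN_assoc, ← compN_assoc B, (hsq B hB).1, (hsq A hA).2.2, (hsq A hA).1]
  have pick : ∀ T : List (List ℕ), T.length < 16 → ∃ A ∈ S, A ∉ T := by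
    intro T hT
    by_contra! h
    have : Nat.card ↥S ≤ T.length := by
      rw [Nat.card_coe_set_eq]
      refine (Set.ncard_le_ncard (t := (↑T.toFinset : Set (List ℕ))) (fun A hA => ?_)
        (Finset.finite_toSet _)).trans ?_
      · rw [Finset.mem_coe, List.mem_toFinset]; exact h A hA
      · rw [Set.ncard_coe_finset]; exact List.toFinset_card_le _
    omega
  obtain ⟨F, hFdef⟩ : ∃ F, F = repF (k + 2) := ⟨_, rfl⟩
  rw [← hFdef] at hF
  obtain ⟨a, ha, han⟩ := pick [idN, F] (by simp)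
  simp only [List.mem_cons, List.not_mem_nil, or_false, not_or] at han
  obtain ⟨b, hb, hbn⟩ := pick [idN, F, a, compN a F] (by simp)
  simp only [List.mem_cons, List.not_mem_nil, or_false, not_or] at hbn
  obtain ⟨c, hc, hcn⟩ := pick [idN, F, a, compN a F, b, compN b F, compN a b, compN (compN a b) F]
    (by simp)
  simp only [List.mem_cons, List.not_mem_nil, or_false, not_or] at hcn
  have hab := hmul a ha b hb
  have hno := List.all_eq_true.1 no_sixteen k (List.mem_range.2 hk)
  simp only [noSixteen, List.all_eq_true, Bool.or_eq_true, beq_iff_eq, bne_iff_ne,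
    Bool.not_eq_true'] at hno
  rw [← hFdef, ← hLdef] at hno
  have haL := inL a ha han.1
  have hbL := inL b hb hbn.1
  have hcL := inL c hc hcn.1
  simp only [List.contains_iff_mem] at haL hbL hcL
  have cL : ∀ A ∈ S, ∀ B ∈ S, A ≠ B → ¬ (L.contains (compN A B) = false) := fun A hA B hB hne => by
    rw [inL _ (hmul A hA B hB) (ne_id A hA B hB hne)]; decide
  have nFb : compN a F ≠ b := fun e => hbn.2.2.2 e.symm
  have e2 : compN a b ≠ F := fun e => by
    refine hbn.2.2.2 ?_
    rw [← e, ← compN_assoc, (hsq a ha).1, (hsq b hb).2.2]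
  have e3 : compN a c ≠ F := fun e => by
    refine hcn.2.2.2.1 ?_
    rw [← e, ← compN_assoc, (hsq a ha).1, (hsq c hc).2.2]
  have e4 : compN b c ≠ F := fun e => by
    refine hcn.2.2.2.2.2.1 ?_
    rw [← e, ← compN_assoc, (hsq b hb).1, (hsq c hc).2.2]
  have e5 : compN (compN a b) c ≠ F := fun e => by
    refine hcn.2.2.2.2.2.2.2 ?_
    rw [← e, ← compN_assoc, (hsq _ hab).1, (hsq c hc).2.2]
  rcases hno a haL with h | h
  · rcases h with (h | h) | h
    · exact han.2 h
    · exact h (hsq a ha).1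
    · exact cL a ha F hF han.2 h
  rcases h b hbL with h | h
  · rcases h with ((((((h | h) | h) | h) | h) | h)) | h
    · exact hbn.2.1 h
    · exact hbn.2.2.1 h
    · exact hbn.2.2.2 h
    · exact h (hcomm a ha b hb)
    · exact cL b hb F hF hbn.2.1 h
    · exact cL a ha b hb (fun e => hbn.2.2.1 e.symm) h
    · exact cL _ hab F hF e2 h
  rcases h c hcL with ((((((((((((((h | h) | h) | h) | h) | h) | h) | h) | h) | h) | h) | h) | h) | h) | h) | h
  · exact hcn.2.1 h
  · exact hcn.2.2.1 h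
  · exact hcn.2.2.2.1 h
  · exact hcn.2.2.2.2.1 h
  · exact hcn.2.2.2.2.2.1 h
  · exact hcn.2.2.2.2.2.2.1 h
  · exact hcn.2.2.2.2.2.2.2 h
  · exact h (hcomm a ha c hc)
  · exact h (hcomm b hb c hc)
  · exact cL c hc F hF hcn.2.1 h
  · exact cL a ha c hc (fun e => hcn.2.2.1 e.symm) h
  · exact cL _ (hmul a ha c hc) F hF e3 h
  · exact cL b hb c hc (fun e => hcn.2.2.2.2.1 e.symm) h
  · exact cL _ (hmul b hb c hc) F hF e4 h
  · exact cL _ hab c hc (fun e => hcn.2.2.2.2.2.2.1 e.symm) h
  · exact cL _ (hmul _ hab c hc) F hF e5 h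

end Normal

theorem IsPair.card_centQ_eq {s g : G} (P : IsPair z s g) (D : Data0 z Q π) (hwc : WClosed z Q) :
    Nat.card (centQ Q s) = 32 := by
  have h := P.card_centQ_lt D hwc
  rcases P.kind D hwc with h' | h' | h'
  · omega
  · exact h'
  · exfalso
    obtain ⟨P', hP'⟩ : ∃ t, t = g⁻¹ * z * g := ⟨_, rfl⟩
    have Pt : IsPair z P' g⁻¹ := hP' ▸ P.partner
    obtain ⟨c, hc, i, j, N⟩ := Pt.exists_normal D hwc
    refine N.no_sixteen_partner hwc ?_
    have e : (c * g⁻¹)⁻¹ * z * (c * g⁻¹) = s := by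
      rw [show (c * g⁻¹)⁻¹ * z * (c * g⁻¹) = g * (c⁻¹ * (z * c)) * g⁻¹ by group, ← hc,
        inv_mul_cancel_left, P.eq]
    rw [e, h']

/-- Products of four commutators with a partner, with their pairing. -/
theorem IsPair.exists_quad {s g : G} (P : IsPair z s g) (D : Data0 z Q π) (hwc : WClosed z Q) :
    ∃ n : ℕ → G, (∀ m < 16, n m ∈ centP Q z g) ∧ n 0 = 1 ∧
      (∀ m < 16, m ≠ 0 → ∃ p, IsPair z (n m * z) p) ∧
      ∀ j < 4, ∀ m < 2 ^ j,
        n (m + 2 ^ j) = (if twist m j then s else 1) * n (2 ^ j) * n m := by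
  obtain ⟨t, ht⟩ : ∃ t, t = g⁻¹ * z * g := ⟨_, rfl⟩
  have P' : IsPair z t g⁻¹ := ht ▸ P.partner
  have h32 := P'.card_centQ_eq D hwc
  obtain ⟨c, hc, i, j, N⟩ := P'.exists_normal D hwc
  rw [P'.card_centQ_conj D hc] at h32
  obtain ⟨k, hk, rfl, rfl⟩ : ∃ k < 2, k + 2 = i ∧ j = 0 := by
    rcases N.kind with h | h | h
    · omega
    · exact ⟨i - 2, by omega, by omega, h.2.2.1⟩
    · omega
  obtain ⟨t', ht'⟩ : ∃ t', t' = c * t * c⁻¹ := ⟨_, rfl⟩
  rw [← ht'] at N
  have hL := List.all_eq_true.1 rep_large k (List.mem_range.2 hk)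
  simp only [Bool.and_eq_true, beq_iff_eq] at hL
  have hpz := hL.1.1.1.1.2
  have hQ := List.all_eq_true.1 rep_quad k (List.mem_range.2 hk)
  simp only [Bool.and_eq_true, List.all_eq_true, decide_eq_true_eq, beq_iff_eq, Bool.or_eq_true,
    bne_iff_ne, List.mem_range] at hQ
  obtain ⟨⟨⟨hlen, hlt⟩, htw⟩, hne⟩ := hQ
  set us := quadVecs.getD k [] with hus
  let q : ℕ → G := fun r => D.sec (mk8 (us.getD r 0))
  let pr4 : ℕ → G := fun m => (if m.testBit 0 then q 0 else 1) * (if m.testBit 1 then q 1 else 1) *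
    (if m.testBit 2 then q 2 else 1) * (if m.testBit 3 then q 3 else 1)
  have hq : ∀ r, q r ∈ Q := fun r => D.sec_mem _
  have hone : ∀ (b : Bool) r, (if b then q r else 1) ∈ Q := fun b r => by
    cases b <;> simp [hq]
  have hprQ : ∀ m, pr4 m ∈ Q := fun m =>
    mul_mem (mul_mem (mul_mem (hone _ _) (hone _ _)) (hone _ _)) (hone _ _)
  have hbit : ∀ (b : Bool) r, π (if b then q r else 1) = if b then mk8 (us.getD r 0) else 0 :=
    fun b r => by cases b <;> simp [q, D.π_sec, D.π_one]
  have hπ : ∀ m < 16, (π (pr4 m)).bits = apN us m := by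
    intro m hm
    obtain ⟨a, b, c, d, hl⟩ : ∃ a b c d, us = [a, b, c, d] := by
      match us, hlen with
      | [a, b, c, d], _ => exact ⟨a, b, c, d, rfl⟩
    rw [hl] at hlt
    simp only [List.mem_cons, List.not_mem_nil, or_false, forall_eq_or_imp, forall_eq] at hlt
    rw [D.map_mul _ (mul_mem (mul_mem (hone _ _) (hone _ _)) (hone _ _)) _ (hone _ _),
      D.map_mul _ (mul_mem (hone _ _) (hone _ _)) _ (hone _ _), D.map_mul _ (hone _ _) _ (hone _ _),
      hbit, hbit, hbit, hbit, hl]
    interval_cases m <;>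
      simp [apN_cons, apN_nil, bits_add, bits_mk8 hlt.1, bits_mk8 hlt.2.1, bits_mk8 hlt.2.2.1,
        bits_mk8 hlt.2.2.2, Nat.xor_assoc, show ((0 : V8)).bits = 0 from rfl,
        Nat.testBit, Nat.shiftRight_eq_div_pow]
  -- the commutators
  let X : ℕ → G := fun m => pr4 m * t' * (pr4 m)⁻¹ * t'
  have hXQ : ∀ m < 16, X m ∈ centQ Q t' ∧
      π (X m) = D.act t' (π (pr4 m)) + π (pr4 m) := by
    intro m hm
    have hy := hprQ m
    have hsy := D.sub.conj_mem N.pair.comm hy
    have e : X m = pr4 m * (t' * pr4 m * t'⁻¹)⁻¹ := by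
      show pr4 m * t' * (pr4 m)⁻¹ * t' = _
      generalize pr4 m = y
      rw [N.pair.s_inv D, mul_inv_rev, mul_inv_rev, N.pair.s_inv D]; group
    have hmem : X m ∈ Q := e ▸ mul_mem hy (inv_mem hsy)
    have hpi : π (X m) = D.act t' (π (pr4 m)) + π (pr4 m) := by
      rw [e, D.map_mul _ hy _ (inv_mem hsy), D.π_inv hsy, ← D.act_π N.pair.comm hy, add_comm]
    refine ⟨mem_centQ.2 ⟨hmem, N.commute_fixed hpz hmem ?_⟩, hpi⟩
    rw [hpi, (D.act_iso N.pair.comm).add, N.pair.act_invol D, add_comm]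
  have hXne : ∀ m < 16, m ≠ 0 → π (X m) ≠ 0 := by
    intro m hm h0 e
    rcases hne m hm with h | h
    · exact h0 h
    · refine h ?_
      have := congrArg V8.bits e
      rw [(hXQ m hm).2, bits_add, hπ m hm] at this
      rw [← N.onN_act (apN_lt (fun n hn => hlt n hn) m)]
      rw [onN, show mk8 (apN us m) = π (pr4 m) by rw [← hπ m hm, mk8_bits]]
      exact this
  have hXrec : ∀ j < 4, ∀ m < 2 ^ j,
      X (m + 2 ^ j) = (if twist m j then z else 1) * X (2 ^ j) * X m := by
    intro j hj m hm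
    have hp : pr4 (2 ^ j) = q j := by
      interval_cases j <;> simp [pr4, Nat.testBit, Nat.shiftRight_eq_div_pow]
    have hp2 : pr4 (m + 2 ^ j) = pr4 m * pr4 (2 ^ j) := by
      interval_cases j <;> interval_cases m <;>
        simp [pr4, Nat.testBit, Nat.shiftRight_eq_div_pow, mul_assoc]
    have hj16 : 2 ^ j < 16 := by interval_cases j <;> norm_num
    have hm16 : m < 16 := by omega
    obtain ⟨hmem, hpi⟩ := hXQ (2 ^ j) hj16
    have hxQ := (mem_centQ.1 hmem).1
    have hb : b8 (π (pr4 m)) (π (X (2 ^ j))) = twist m j := by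
      rw [hpi, ← bN_bits, hπ m hm16, bits_add, show π (pr4 (2 ^ j)) = mk8 (us.getD j 0) by
        rw [hp]; exact D.π_sec _]
      have hu : us.getD j 0 < 256 := by
        rw [List.getD_eq_getElem _ _ (by omega)]; exact hlt _ (List.getElem_mem _)
      rw [bits_mk8 hu, show (D.act t' (mk8 (us.getD j 0))).bits = onN (D.act t') (us.getD j 0) from rfl,
        N.onN_act hu, htw m hm16 j hj]
      rfl
    have hconj : pr4 m * X (2 ^ j) * (pr4 m)⁻¹ = (if twist m j then z else 1) * X (2 ^ j) := by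
      have hiff := D.commute_iff (hprQ m) hxQ
      rw [hb] at hiff
      cases htwv : twist m j
      · rw [htwv] at hiff
        simp only [if_false, Bool.false_eq_true, one_mul]
        rw [hiff.2 rfl, mul_inv_cancel_right]
      · rw [htwv] at hiff
        simp only [if_true]
        rcases D.sub.conj_eq (hprQ m) hxQ with e | e
        · exact absurd (hiff.1 (mul_inv_eq_iff_eq_mul.1 e)) (by decide)
        · exact e
    have htt := N.pair.s_mul D
    show pr4 (m + 2 ^ j) * t' * (pr4 (m + 2 ^ j))⁻¹ * t' = _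
    rw [← hconj, hp2]
    show _ = pr4 m * (pr4 (2 ^ j) * t' * (pr4 (2 ^ j))⁻¹ * t') * (pr4 m)⁻¹ *
      (pr4 m * t' * (pr4 m)⁻¹ * t')
    calc pr4 m * pr4 (2 ^ j) * t' * (pr4 m * pr4 (2 ^ j))⁻¹ * t'
        = pr4 m * (pr4 (2 ^ j) * t' * (pr4 (2 ^ j))⁻¹) * (t' * t') * (pr4 m)⁻¹ * t' := by
          rw [htt, mul_one]; group
      _ = _ := by group
  -- carry them over to the conjugate
  refine ⟨fun m => g * (c⁻¹ * X m * c) * g⁻¹, fun m hm => ?_, ?_, fun m hm h0 => ?_, fun j hj m hm => ?_⟩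
  · obtain ⟨hxQ, hxt⟩ := mem_centQ.1 (hXQ m hm).1
    refine mem_centP.2 ⟨?_, ?_⟩
    · rw [show g⁻¹ * (g * (c⁻¹ * X m * c) * g⁻¹) * g = c⁻¹ * X m * c⁻¹⁻¹ by group]
      exact D.sub.conj_mem (Commute.inv_left hc).eq hxQ
    · rw [ht'] at hxt
      have ez : z = g * t * g⁻¹ := by rw [ht]; group
      calc g * (c⁻¹ * X m * c) * g⁻¹ * z = g * (c⁻¹ * X m * c) * g⁻¹ * (g * t * g⁻¹) := by rw [← ez]
        _ = g * c⁻¹ * (X m * (c * t * c⁻¹)) * c * g⁻¹ := by group
        _ = (g * t * g⁻¹) * (g * (c⁻¹ * X m * c) * g⁻¹) := by rw [hxt]; group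
        _ = _ := by rw [← ez]
  · have : X 0 = 1 := by
      show pr4 0 * t' * (pr4 0)⁻¹ * t' = 1
      simp [pr4, N.pair.s_mul D]
    simp [this]
  · have hX1 : X m ≠ 1 := fun e => hXne m hm h0 (by rw [e, D.π_one])
    obtain ⟨hxQ, hxt⟩ := mem_centQ.1 (hXQ m hm).1
    refine ⟨g * (c⁻¹ * pr4 m * c) * g⁻¹, ?_, ?_, fun e => hX1 ?_⟩
    · calc g * (c⁻¹ * pr4 m * c) * g⁻¹ * z * (g * (c⁻¹ * pr4 m * c) * g⁻¹)⁻¹
          = g * c⁻¹ * (pr4 m * (c * (g⁻¹ * z * g) * c⁻¹) * (pr4 m)⁻¹) * c * g⁻¹ := by group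
        _ = g * c⁻¹ * (X m * t') * c * g⁻¹ := by
            rw [← ht, ← ht', show X m * t' = pr4 m * t' * (pr4 m)⁻¹ by
              show pr4 m * t' * (pr4 m)⁻¹ * t' * t' = _
              rw [mul_assoc _ t' t', N.pair.s_mul D, mul_one]]
        _ = g * (c⁻¹ * X m * c) * g⁻¹ * z := by rw [ht', ht]; group
    · rw [ht'] at hxt
      have ez : z = g * t * g⁻¹ := by rw [ht]; group
      have : g * (c⁻¹ * X m * c) * g⁻¹ * z = z * (g * (c⁻¹ * X m * c) * g⁻¹) := by
        calc g * (c⁻¹ * X m * c) * g⁻¹ * z = g * (c⁻¹ * X m * c) * g⁻¹ * (g * t * g⁻¹) := by rw [← ez]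
          _ = g * c⁻¹ * (X m * (c * t * c⁻¹)) * c * g⁻¹ := by group
          _ = (g * t * g⁻¹) * (g * (c⁻¹ * X m * c) * g⁻¹) := by rw [hxt]; group
          _ = _ := by rw [← ez]
      exact (Commute.mul_left (show Commute _ z from this) (Commute.refl z)).eq
    · have h1 := mul_eq_right.1 e
      rw [conj_eq_one_iff] at h1
      calc X m = c * (c⁻¹ * X m * c) * c⁻¹ := by group
        _ = 1 := by rw [h1]; group
  · have hzc : c⁻¹ * z * c = z := by rw [mul_assoc, ← hc, inv_mul_cancel_left]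
    show g * (c⁻¹ * X (m + 2 ^ j) * c) * g⁻¹ = _
    rw [hXrec j hj m hm]
    cases twist m j
    · simp only [if_false, Bool.false_eq_true, one_mul]; group
    · simp only [if_true]
      rw [← P.eq]
      conv_rhs => rw [← hzc]
      group

theorem false_of_pair {s g : G} (P : IsPair z s g) (D : Data0 z Q π) (hwc : WClosed z Q) : False := by
  obtain ⟨c, hc, i, j, N⟩ := P.exists_normal D hwc
  have h32 := N.pair.card_centQ_eq D hwc
  obtain ⟨k, hk, rfl, rfl⟩ : ∃ k < 2, k + 2 = i ∧ j = 0 := by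
    rcases N.kind with h | h | h
    · omega
    · exact ⟨i - 2, by omega, by omega, h.2.2.1⟩
    · omega
  obtain ⟨-, -, h1, hmem⟩ := N.large_facts hwc
  obtain ⟨s', hs'⟩ : ∃ s', s' = c * s * c⁻¹ := ⟨_, rfl⟩
  rw [← hs'] at N
  obtain ⟨n, hn, hn0, hpair, hrec⟩ := N.pair.exists_quad D hwc
  obtain ⟨hsmall, hd⟩ := Bool.and_eq_true_iff.1 (List.all_eq_true.1 four_diffs k
    (List.mem_range.2 (by omega)))
  let K : ℕ → ℕ := fun m => selBits (keyPos k) (diffC (D.code (n m)))
  have hlin : ∀ a b, a ∈ centP Q z (c * g) → b ∈ centP Q z (c * g) →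
      diffC (D.code (a * b)) = diffC (D.code a) ^^^ diffC (D.code b) := by
    intro a b ha hb
    obtain ⟨-, haz⟩ := mem_centP.1 ha
    obtain ⟨-, hbz⟩ := mem_centP.1 hb
    rw [diffC, diffC, diffC, ← packX_xor _ _ (by simp [Data0.code, enc, idN])]
    congr 1
    have hfa := D.act_iso haz
    have hab := D.act_iso (Commute.mul_left haz hbz).eq
    have e : ∀ f : V8 → V8, List.zipWith (· ^^^ ·) (enc f) idN =
        idN.map fun e => onN f e ^^^ e := fun f => by
      simp [enc, idN, onN]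
    rw [Data0.code, Data0.code, Data0.code, e, e, e, List.zipWith_map, List.zipWith_self]
    refine List.map_congr_left fun m hm => ?_
    have hm256 : m < 256 := by
      simp only [idN, List.mem_cons, List.not_mem_nil, or_false] at hm; omega
    have hW := List.all_eq_true.1 (List.all_eq_true.1 hd _ (hmem b hb)) m hm
    rw [List.contains_iff_mem, Data0.code, apN_enc' (D.act_iso hbz) m hm256] at hW
    obtain ⟨v, hv, hvfix⟩ := N.imList_fixed hW
    have hL := List.all_eq_true.1 rep_large k (List.mem_range.2 hk)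
    simp only [Bool.and_eq_true, beq_iff_eq] at hL
    have hy : D.sec v ∈ centQ Q s' := mem_centQ.2 ⟨D.sec_mem v,
      N.commute_fixed hL.1.1.1.1.2 (D.sec_mem v) (by rw [D.π_sec, hvfix])⟩
    obtain ⟨x, hx, hav⟩ := N.pair.act_centQ D hwc ha hy
    have : x = 1 := by
      have h1' := h1
      rw [Subgroup.card_eq_one] at h1'
      rw [h1', Subgroup.mem_bot] at hx
      exact hx
    rw [this, D.π_one, add_zero, D.π_sec] at hav
    have hbm : D.act b (mk8 m) = mk8 m + v := by
      refine V8.ext_bits ?_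
      rw [bits_add, bits_mk8 hm256, hv, onN, ← Nat.xor_assoc, Nat.xor_comm m, Nat.xor_assoc,
        Nat.xor_self, Nat.xor_zero]
    simp only [onN]
    rw [D.act_mul haz hbz, hbm, hfa.add, hav, bits_add, bits_add, bits_mk8 hm256]
    generalize (D.act a (mk8 m)).bits = A
    generalize v.bits = B
    rw [Nat.xor_assoc A, Nat.xor_comm B, ← Nat.xor_assoc A,
      show m ^^^ B ^^^ m = B by rw [Nat.xor_comm m B, Nat.xor_assoc, Nat.xor_self, Nat.xor_zero]]
  have hs : s' ∈ centP Q z (c * g) := N.pair.s_mem_centP D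
  have hdf : selBits (keyPos k) (diffC (D.code s')) = selBits (keyPos 0) (diffC (repF 2)) := by
    rw [N.code]
    have := List.all_eq_true.1 quad_keys k (List.mem_range.2 hk)
    simpa using this
  refine noQuad_false (selBits (keyPos 0) (diffC (repF 2))) K 4 0 (fun l hl m hm => ?_)
    (fun m h0 hm => ?_) ?_
  · have hl4 : l < 4 := by omega
    have h2 : 2 ^ l < 16 := Nat.pow_lt_pow_right (by norm_num) hl4
    show selBits _ (diffC (D.code (n (m + 2 ^ l)))) = _
    rw [hrec l hl4 m hm]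
    cases htw : twist m l
    · simp only [Bool.false_eq_true, if_false, one_mul, hlin _ _ (hn _ h2) (hn m (by omega)),
        selBits_xor, K, Nat.zero_xor]
    · simp only [if_true, hlin _ _ (mul_mem hs (hn _ h2)) (hn m (by omega)), hlin _ _ hs (hn _ h2),
        selBits_xor, hdf, K]
  · obtain ⟨p, hp⟩ := hpair m (by simpa using hm) h0
    have hw : wN (D.code (n m)) = 16 := by
      rw [← D.code_mul_z (mem_centP.1 (hn m (by simpa using hm))).2]
      rcases hp.wN_mem D hwc with ⟨-, h⟩ | h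
      · have := hp.card_centQ_lt D hwc; omega
      · exact h
    have hL := List.all_eq_true.1 (List.all_eq_true.1 four_lists k (List.mem_range.2 (by omega))) _
      (hmem _ (hn m (by simpa using hm)))
    simp only [hw, bne_self_eq_false, Bool.false_or, List.contains_iff_mem] at hL
    exact List.all_eq_true.1 hsmall _ hL
  · show noQuad keyMask _ twist 4 0 [K 0] = true
    have : K 0 = 0 := by
      show selBits _ (diffC (D.code (n 0))) = 0
      rw [hn0, D.code_one]
      interval_cases k <;> decide +kernel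
    rw [this]
    exact no_quad

end CfsgLib.CoOneReduce
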