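import Cfsg.Agent.CoOneReduce.Kinds

/-!
# The intersection is trivial for the conjugates moving many vectors
-/

set_option autoImplicit false
set_option linter.unusedSectionVars false

namespace CfsgLib.CoOneReduce

open CfsgLib.LargeExtraspecial CfsgLib.ConwayType

variable {G : Type*} [Group G] [Finite G] {z : G} {Q : Subgroup G} {π : G → V8}

theorem mem_of_bits {v : V8} {l : List ℕ} (h : v.bits ∈ l) : ∃ n ∈ l, mk8 n = v :=
  ⟨v.bits, h, mk8_bits v⟩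

theorem IsPair.interQ_ne_zero {s g : G} (P : IsPair z s g) (D : Data0 z Q π) (hwc : WClosed z Q)
    {x : G} (hx : x ∈ interQ Q g) (h1 : x ≠ 1) : π x ≠ 0 := fun e => by
  rcases D.mem_of_π_zero (mem_interQ.1 hx).1 e with h | h
  · exact h1 h
  · exact P.z_not_mem D hwc (h ▸ (mem_interQ.1 hx).2)

theorem Normal.mid_trivial {s g : G} {i j : ℕ} {D : Data0 z Q π} (N : Normal D s g i j)
    (hwc : WClosed z Q) (h2 : 2 ≤ i) (h4 : i < 4) : ∀ x ∈ interQ Q g, x = 1 := by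
  intro x hx
  by_contra hx1
  have hd := N.pair.interQ_ne_zero D hwc hx hx1
  obtain ⟨k, hk, rfl⟩ : ∃ k < 2, k + 2 = i := ⟨i - 2, by omega, by omega⟩
  have hL := List.all_eq_true.1 rep_large k (List.mem_range.2 hk)
  simp only [Bool.and_eq_true, beq_iff_eq, List.all_eq_true, Bool.or_eq_true, List.any_eq_true,
    List.contains_iff_mem, bne_iff_ne, Bool.not_eq_true', List.mem_range] at hL
  obtain ⟨⟨⟨⟨⟨⟨-, hlen⟩, hpz⟩, -⟩, hUW⟩, hwords⟩, horth⟩ := hL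
  obtain rfl : j = 0 := by have := N.hj; omega
  have hdU := (N.mem_centQ_iff.1 (N.pair.interQ_le_centQ D hwc hx)).2
  have hdW := hUW _ hdU
  have hzs : ¬ ∃ k, k * z * k⁻¹ = z * s := by
    rintro hzs
    obtain ⟨u, hu⟩ := N.mem_imList.1 hdW
    have e : D.act s u + u = π x := V8.ext_bits hu
    exact hd (e.symm.trans (N.pair.interV_comm_eq_zero hwc D hzs
      (by rw [e]; exact mem_interV.2 ⟨x, hx, rfl⟩)))
  rcases horth _ hdW with h | ⟨w, hw, hmove, u, hu, hud, hub⟩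
  · exact hd (V8.ext_bits h)
  obtain ⟨hwok, hwf⟩ := hwords w hw
  obtain ⟨c, hc, hcv⟩ := D.exists_pw w (wordOK_pairs hwok)
  have hcc : D.code c = wordC w := onN_pw hcv
  obtain ⟨c', hc', hcs', hact⟩ := N.exists_centralizing hpz hzs hc (by rw [hcc, N.code, hwf])
  obtain ⟨hxQ, hxP⟩ := mem_interQ.1 hx
  have hx' : c' * x * c'⁻¹ ∈ interQ Q g :=
    mem_interQ.2 ⟨D.sub.conj_mem hc' hxQ, N.pair.P_conj_mem D hcs' hxP⟩
  have hπ' : π (c' * x * c'⁻¹) = D.act c (π x) := by rw [← D.act_π hc' hxQ, hact]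
  have hb' : apN (wordC w) (π x).bits = (π (c' * x * c'⁻¹)).bits := by
    rw [← hcc, D.apN_code hc, hπ']
  rw [hb'] at hmove hub
  have hW' := hUW _ (N.mem_centQ_iff.1 (N.pair.interQ_le_centQ D hwc hx')).2
  obtain ⟨u', hu'⟩ := N.mem_imList.1 hW'
  have hu1 : D.act s (mk8 u) + mk8 u = π x := V8.ext_bits (by
    rw [bits_add, bits_mk8 hu, ← hud, ← N.onN_act hu]; rfl)
  have hu2 : D.act s u' + u' = π (c' * x * c'⁻¹) := V8.ext_bits hu'
  have key : ∀ (v : V8) (y : G), y ∈ interQ Q g → y ≠ 1 → D.act s v + v = π y →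
      y = z * (D.sec v * s * (D.sec v)⁻¹ * s) := by
    intro v y hy hy1 e
    obtain ⟨hlQ, hlπ⟩ := comm_lift N.pair D v
    rcases D.eq_or_eq_of_π_eq hlQ (mem_interQ.1 hy).1 (hlπ.trans e) with h | h
    · refine absurd ?_ hy1
      have := N.pair.eq_s_of_conj hwc (h := D.sec v * g) (by
        have h2 := mul_mem (mem_interQ.1 hy).2 (show g⁻¹ * s * g ∈ Q by
          rw [N.pair.inv_s_g]; exact D.sub.z_mem)
        rw [show g⁻¹ * y * g * (g⁻¹ * s * g) = g⁻¹ * (y * s) * g by group, h,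
          mul_assoc _ s s, N.pair.s_mul D, mul_one, ← N.pair.eq] at h2
        rwa [show D.sec v * g * z * (D.sec v * g)⁻¹ = D.sec v * (g * z * g⁻¹) * (D.sec v)⁻¹ by group])
      rw [show D.sec v * g * z * (D.sec v * g)⁻¹ = D.sec v * (g * z * g⁻¹) * (D.sec v)⁻¹ by group,
        N.pair.eq] at this
      rw [h, this, N.pair.s_mul D]
    · exact h
  have hx'1 : c' * x * c'⁻¹ ≠ 1 := fun e => hx1 (conj_eq_one_iff.1 e)
  have k1 := key (mk8 u) x hx hx1 hu1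
  have k2 := key u' _ hx' hx'1 hu2
  obtain ⟨y, hy⟩ : ∃ y, y = D.sec (mk8 u) := ⟨_, rfl⟩
  obtain ⟨y', hy'⟩ : ∃ y', y' = D.sec u' := ⟨_, rfl⟩
  have hyQ : y ∈ Q := hy ▸ D.sec_mem _
  rw [← hy] at k1
  rw [← hy'] at k2
  have hcomm : Commute y (y' * s * y'⁻¹ * s) := by
    obtain ⟨hlQ, hlπ⟩ := comm_lift N.pair D u'
    refine (D.commute_iff hyQ (hy' ▸ hlQ)).2 ?_
    rw [hy, D.π_sec, hy', hlπ, hu2, ← bN_bits, bits_mk8 hu]
    exact hub
  have hprod : (c' * x * c'⁻¹) * x = y * (y' * g) * z * (y * (y' * g))⁻¹ * s := by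
    have hzz := D.sub.mul_self
    have e1 : y * (y' * g) * z * (y * (y' * g))⁻¹ = y * (y' * s * y'⁻¹ * s) * (s * y⁻¹) := by
      calc y * (y' * g) * z * (y * (y' * g))⁻¹ = y * (y' * (g * z * g⁻¹) * y'⁻¹) * y⁻¹ := by group
        _ = y * (y' * s * y'⁻¹) * y⁻¹ := by rw [N.pair.eq]
        _ = y * (y' * s * y'⁻¹ * (s * s)) * y⁻¹ := by rw [N.pair.s_mul D, mul_one]
        _ = _ := by group
    rw [e1, hcomm.eq]
    obtain ⟨hlQ, -⟩ := comm_lift N.pair D u'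
    rw [← hy'] at hlQ
    rw [k2, k1]
    calc z * (y' * s * y'⁻¹ * s) * (z * (y * s * y⁻¹ * s))
        = z * ((y' * s * y'⁻¹ * s) * z) * (y * s * y⁻¹ * s) := by group
      _ = (z * z) * (y' * s * y'⁻¹ * s) * (y * s * y⁻¹ * s) := by rw [D.Q_comm hlQ]; group
      _ = y' * s * y'⁻¹ * s * y * (s * y⁻¹) * s := by rw [hzz]; group
  have hone := N.pair.eq_s_of_conj hwc (h := y * (y' * g)) (by
    have h2 := mul_mem (mem_interQ.1 (mul_mem hx' hx)).2 (show g⁻¹ * s * g ∈ Q by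
      rw [N.pair.inv_s_g]; exact D.sub.z_mem)
    rwa [show g⁻¹ * (c' * x * c'⁻¹ * x) * g * (g⁻¹ * s * g) = g⁻¹ * (c' * x * c'⁻¹ * x * s) * g by
      group, hprod, mul_assoc _ s s, N.pair.s_mul D, mul_one] at h2)
  rw [hone, N.pair.s_mul D] at hprod
  refine hmove (congrArg V8.bits ?_)
  refine eq_of_add_eq_zero8 ?_
  rw [← D.map_mul _ (mem_interQ.1 hx').1 _ hxQ, hprod, D.π_one]

theorem Normal.last_trivial {s g : G} {j : ℕ} {D : Data0 z Q π} (N : Normal D s g 4 j)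
    (hwc : WClosed z Q) : ∀ x ∈ interQ Q g, x = 1 := by
  intro x hx
  by_contra hx1
  have h := N.mem_candL hwc hx (N.pair.interQ_ne_zero D hwc hx hx1)
  obtain rfl : j = 0 := by rcases N.kind with h | h | h <;> omega
  have hs := rep_last
  simp only [Bool.and_eq_true, beq_iff_eq] at hs
  rw [hs.2] at h
  exact List.not_mem_nil h

theorem IsPair.interQ_trivial {s g : G} (P : IsPair z s g) (D : Data0 z Q π) (hwc : WClosed z Q)
    (h : Nat.card (centQ Q s) < 64) : Nat.card (interQ Q g) = 1 := by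
  obtain ⟨c, hc, i, j, N⟩ := P.exists_normal D hwc
  rw [P.card_centQ_conj D hc] at h
  rw [P.card_interQ_conj D hc, Subgroup.card_eq_one, eq_bot_iff]
  intro x hx
  rw [Subgroup.mem_bot]
  rcases N.kind with ⟨h1, h2, -⟩ | ⟨h1, h2, -⟩ | ⟨rfl, -⟩
  · omega
  · exact N.mid_trivial hwc h1 h2 x hx
  · exact N.last_trivial hwc x hx

/-- With an abelian centraliser of order sixteen each nontrivial element of the other side gives a
conjugate of `z`. -/
theorem IsPair.exists_comm_pair {s g : G} (P : IsPair z s g) (D : Data0 z Q π) (hwc : WClosed z Q)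
    (h16 : Nat.card (centQ Q (g⁻¹ * z * g)) = 16) {n : G} (hn : n ∈ centP Q z g) (h1 : n ≠ 1)
    (hs : n ≠ s) : ∃ p, IsPair z (n * z) p := by
  obtain ⟨t, ht⟩ : ∃ t, t = g⁻¹ * z * g := ⟨_, rfl⟩
  have P' : IsPair z t g⁻¹ := ht ▸ P.partner
  rw [← ht] at h16
  obtain ⟨c, hc, i, j, N⟩ := P'.exists_normal D hwc
  rw [P'.card_centQ_conj D hc] at h16
  obtain ⟨rfl, rfl⟩ : i = 4 ∧ j = 0 := by
    rcases N.kind with h | h | h <;> [omega; omega; exact ⟨h.1, h.2.1⟩]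
  have hL := rep_last
  simp only [Bool.and_eq_true, beq_iff_eq, List.all_eq_true, List.contains_iff_mem,
    Bool.not_eq_true'] at hL
  obtain ⟨hnP, hnz⟩ := mem_centP.1 hn
  set x := g⁻¹ * n * g with hx
  have hxt : x * t = t * x := by
    rw [hx, ht]
    calc g⁻¹ * n * g * (g⁻¹ * z * g) = g⁻¹ * (n * z) * g := by group
      _ = _ := by rw [hnz]; group
  obtain ⟨t', ht'⟩ : ∃ t', t' = c * t * c⁻¹ := ⟨_, rfl⟩
  rw [← ht'] at N
  obtain ⟨y, hy⟩ : ∃ y, y = c * x * c⁻¹ := ⟨_, rfl⟩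
  have hyQ : y ∈ Q := hy ▸ D.sub.conj_mem hc hnP
  have hyt : y * t' = t' * y := by
    rw [hy, ht']
    calc c * x * c⁻¹ * (c * t * c⁻¹) = c * (x * t) * c⁻¹ := by group
      _ = _ := by rw [hxt]; group
  have hyW := hL.1.2 _ (N.mem_centQ_iff.1 (mem_centQ.2 ⟨hyQ, hyt⟩)).2
  obtain ⟨u, hu⟩ := N.mem_imList.1 hyW
  obtain ⟨hlQ, hlπ⟩ := Normal.comm_lift N.pair D u
  obtain ⟨q, hq⟩ : ∃ q, q * t' * q⁻¹ = y * t' := by
    rcases D.eq_or_eq_of_π_eq hlQ hyQ (hlπ.trans (V8.ext_bits hu)) with e | e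
    · exact ⟨D.sec u, by rw [e, mul_assoc _ t' t', N.pair.s_mul D, mul_one]⟩
    · obtain ⟨y0, -, hy0⟩ := N.exists_conj_zs hL.1.1.1.2
      refine ⟨D.sec u * y0, ?_⟩
      rw [e]
      calc D.sec u * y0 * t' * (D.sec u * y0)⁻¹ = D.sec u * (y0 * t' * y0⁻¹) * (D.sec u)⁻¹ := by group
        _ = D.sec u * z * t' * (D.sec u)⁻¹ := by rw [hy0]; group
        _ = z * (D.sec u * t' * (D.sec u)⁻¹) := by rw [D.Q_comm (D.sec_mem u)]; group
        _ = z * (D.sec u * t' * (D.sec u)⁻¹ * t') * t' := by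
            rw [mul_assoc z, mul_assoc _ t' t', N.pair.s_mul D, mul_one]
  refine ⟨g * (c⁻¹ * q * c) * g⁻¹, ?_, by rw [mul_assoc, ← mul_assoc z, ← hnz, mul_assoc], fun e => h1 (mul_eq_right.1 e)⟩
  calc g * (c⁻¹ * q * c) * g⁻¹ * z * (g * (c⁻¹ * q * c) * g⁻¹)⁻¹
      = g * c⁻¹ * (q * (c * (g⁻¹ * z * g) * c⁻¹) * q⁻¹) * c * g⁻¹ := by group
    _ = g * c⁻¹ * (y * t') * c * g⁻¹ := by rw [← ht, ← ht', hq]
    _ = n * z := by rw [hy, ht', ht, hx]; group

theorem IsPair.wN_of_partner {s g : G} (P : IsPair z s g) (D : Data0 z Q π) (hwc : WClosed z Q)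
    (h16 : Nat.card (centQ Q (g⁻¹ * z * g)) = 16) {n : G} (hn : n ∈ centP Q z g) :
    D.code n = idN ∨ D.code n = D.code s ∨
      ∃ p, IsPair z (n * z) p ∧ D.code n = D.code (n * z) := by
  by_cases h1 : n = 1
  · exact Or.inl (h1 ▸ D.code_one)
  by_cases h2 : n = s
  · exact Or.inr (Or.inl (h2 ▸ rfl))
  obtain ⟨p, hp⟩ := P.exists_comm_pair D hwc h16 hn h1 h2
  exact Or.inr (Or.inr ⟨p, hp, (D.code_mul_z (mem_centP.1 hn).2).symm⟩)

end CfsgLib.CoOneReduce
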