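import Cfsg.Agent.CoOneReduce.Normal

/-!
# The kinds of second conjugates and their invariants
-/

set_option autoImplicit false
set_option linter.unusedSectionVars false

namespace CfsgLib.CoOneReduce

open CfsgLib.LargeExtraspecial CfsgLib.ConwayType

variable {G : Type*} [Group G] {z : G} {Q : Subgroup G} {π : G → V8}

theorem compN_idN : ∀ {l : List ℕ}, l.length = 8 → compN l idN = l := by
  intro l h
  match l, h with
  | [a, b, c, d, e, f, u, v], _ => simp [compN, idN, apN_cons, apN_nil]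

theorem length_enc (f : V8 → V8) : (enc f).length = 8 := by simp [enc, idN]

namespace Data0

variable (D : Data0 z Q π)
include D

theorem code_mul {c d : G} (hc : c * z = z * c) (hd : d * z = z * d) :
    D.code (c * d) = compN (D.code c) (D.code d) :=
  D.enc_act_mul hc hd

theorem code_of_mem {c : G} (hc : c ∈ Q) : D.code c = idN := D.enc_act_of_mem hc

theorem code_one : D.code 1 = idN := D.code_of_mem (one_mem Q)

theorem apN_code {c : G} (hc : c * z = z * c) (v : V8) :
    apN (D.code c) v.bits = (D.act c v).bits :=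
  apN_enc (D.act_iso hc) v

theorem code_mul_z {n : G} (hn : n * z = z * n) : D.code (n * z) = D.code n := by
  rw [D.code_mul hn rfl, D.code_of_mem D.sub.z_mem]
  exact compN_idN (length_enc _)

/-- Cancellation of an invertible code. -/
theorem code_cancel {c : G} (hc : c * z = z * c) {A B : List ℕ} (hA : A.length = 8)
    (hB : B.length = 8) (h : compN A (D.code c) = compN B (D.code c)) : A = B := by
  have hi : c⁻¹ * z = z * c⁻¹ := (Commute.inv_left hc).eq
  have := congrArg (fun X => compN X (D.code c⁻¹)) h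
  simpa [compN_assoc, ← D.code_mul hc hi, D.code_one, compN_idN hA, compN_idN hB] using this

theorem wN_conj {c x : G} (hc : c * z = z * c) (hx : x * z = z * x) :
    wN (D.code (c * x * c⁻¹)) = wN (D.code x) := by
  classical
  have hy : (c * x * c⁻¹) * z = z * (c * x * c⁻¹) :=
    ((Commute.mul_left hc hx).mul_left (Commute.inv_left hc)).eq
  rw [Data0.code, Data0.code, wN_enc (D.act_iso hy), wN_enc (D.act_iso hx),
    ← Finset.card_image_of_injective (Finset.univ.image fun v : V8 => D.act x v + v)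
      (f := D.act c) (fun a b h => by rw [← (D.act_cancel hc a).1, h, (D.act_cancel hc b).1])]
  refine congrArg Finset.card (Finset.ext fun w => ?_)
  simp only [Finset.mem_image, Finset.mem_univ, true_and]
  constructor
  · rintro ⟨v, rfl⟩
    refine ⟨_, ⟨D.act c⁻¹ v, rfl⟩, ?_⟩
    rw [(D.act_iso hc).add, D.act_conj hc hx, (D.act_cancel hc v).2]
  · rintro ⟨_, ⟨v, rfl⟩, rfl⟩
    exact ⟨D.act c v, by rw [(D.act_iso hc).add, D.act_conj hc hx, (D.act_cancel hc v).1]⟩

end Data0

namespace Normal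

variable {s g : G} {i j : ℕ} {D : Data0 z Q π} (N : Normal D s g i j)
include N

theorem kind [Finite G] :
    (i < 2 ∧ 64 ≤ Nat.card (centQ Q s) ∧ Nat.card (centQ Q s) ≤ 128) ∨
      (2 ≤ i ∧ i < 4 ∧ j = 0 ∧ Nat.card (centQ Q s) = 32) ∨
      (i = 4 ∧ j = 0 ∧ Nat.card (centQ Q s) = 16) := by
  rw [N.card_centQ]
  rcases Nat.lt_or_ge i 2 with h | h
  · have hs := List.all_eq_true.1 rep_small i (List.mem_range.2 h)
    simp only [Bool.and_eq_true, List.all_eq_true, decide_eq_true_eq, List.mem_range] at hs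
    have := (hs.2 j N.hj).1.1
    exact Or.inl ⟨h, by omega, by omega⟩
  · refine Or.inr ?_
    rcases Nat.lt_or_ge i 4 with h4 | h4
    · obtain ⟨k, hk, rfl⟩ : ∃ k < 2, k + 2 = i := ⟨i - 2, by omega, by omega⟩
      have hs := List.all_eq_true.1 rep_large k (List.mem_range.2 hk)
      simp only [Bool.and_eq_true, beq_iff_eq] at hs
      have hj := N.hj
      rw [hs.1.1.1.1.1.2] at hj
      obtain rfl : j = 0 := by omega
      exact Or.inl ⟨h, h4, rfl, by rw [hs.1.1.1.2]⟩
    · obtain rfl : i = 4 := by have := N.hi; omega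
      have hs := rep_last
      simp only [Bool.and_eq_true, beq_iff_eq] at hs
      have hj := N.hj
      rw [hs.1.1.1.1.2] at hj
      obtain rfl : j = 0 := by omega
      exact Or.inr ⟨rfl, rfl, by rw [hs.1.1.2]⟩

theorem wN_code : wN (D.code s) = if i < 2 then 4 else 16 := by
  rw [N.code]
  split
  · next h =>
    have hs := List.all_eq_true.1 rep_small i (List.mem_range.2 h)
    simp only [Bool.and_eq_true, beq_iff_eq] at hs
    exact hs.1
  · next h =>
    rcases Nat.lt_or_ge i 4 with h4 | h4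
    · obtain ⟨k, hk, rfl⟩ : ∃ k < 2, k + 2 = i := ⟨i - 2, by omega, by omega⟩
      have hs := List.all_eq_true.1 rep_large k (List.mem_range.2 hk)
      simp only [Bool.and_eq_true, beq_iff_eq] at hs
      exact hs.1.1.1.1.1.1
    · obtain rfl : i = 4 := by have := N.hi; omega
      have hs := rep_last
      simp only [Bool.and_eq_true, beq_iff_eq] at hs
      exact hs.1.1.1.1.1

theorem nonab (h : i < 2) : ∃ a ∈ centQ Q s, ∃ b ∈ centQ Q s, a * b ≠ b * a := by
  have hs := List.all_eq_true.1 rep_small i (List.mem_range.2 h)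
  simp only [Bool.and_eq_true, List.all_eq_true, List.any_eq_true, List.mem_range] at hs
  obtain ⟨u, hu, v, hv, hb⟩ := (hs.2 j N.hj).1.2
  have lt : ∀ u, u ∈ kerList (repF i) (repX i j) → u < 256 := fun u hu =>
    List.mem_range.1 (List.mem_filter.1 hu).1
  refine ⟨D.sec (mk8 u), N.mem_centQ_iff.2 ⟨D.sec_mem _, by rw [D.π_sec, bits_mk8 (lt u hu)]; exact hu⟩,
    D.sec (mk8 v), N.mem_centQ_iff.2 ⟨D.sec_mem _, by rw [D.π_sec, bits_mk8 (lt v hv)]; exact hv⟩,
    fun e => ?_⟩
  have := (D.commute_iff (D.sec_mem _) (D.sec_mem _)).1 e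
  rw [D.π_sec, D.π_sec, ← bN_bits, bits_mk8 (lt u hu), bits_mk8 (lt v hv), hb] at this
  exact absurd this (by decide)

theorem phiZ_all (h : phiZ (repKb i) (repX i j) = true) {v : V8} (hv : D.act s v = v) :
    b8 v (mk8 (repX i j)) = false := by
  have hb := List.all_eq_true.1 rep_basis i (List.mem_range.2 N.hi)
  simp only [Bool.and_eq_true, List.all_eq_true, decide_eq_true_eq, beq_iff_eq, Bool.or_eq_true,
    bne_iff_ne, List.contains_iff_mem, List.mem_range] at hb
  obtain ⟨⟨⟨⟨hK, hspan⟩, -⟩, -⟩, -⟩ := hb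
  simp only [phiZ, List.all_eq_true, Bool.not_eq_true'] at h
  have key : ∀ l : List ℕ, (∀ k ∈ l, k ∈ repKb i) → ∀ m,
      apN l m < 256 ∧ b8 (mk8 (apN l m)) (mk8 (repX i j)) = false := by
    intro l
    induction l with
    | nil => intro _ m; rw [apN_nil]; exact ⟨by norm_num, b8_zero_left _⟩
    | cons a l ih =>
      intro hl m
      obtain ⟨h1, h2⟩ := ih (fun k hk => hl k (List.mem_cons_of_mem a hk)) (m / 2)
      have ha := (hK a (hl a List.mem_cons_self)).1
      rw [apN_cons]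
      split
      · refine ⟨Nat.xor_lt_two_pow (n := 8) ha h1, ?_⟩
        rw [mk8_xor ha h1, b8_add_left, h2, ← bN_bits, bits_mk8 ha, bits_mk8 N.x_lt,
          h a (hl a List.mem_cons_self)]
        rfl
      · rw [Nat.zero_xor]; exact ⟨h1, h2⟩
  rcases hspan v.bits v.bits_lt with e | e
  · refine absurd ?_ e
    rw [← N.onN_act v.bits_lt, onN, mk8_bits, hv]
  · obtain ⟨m, hm⟩ := (mem_spanN _ _).1 e
    have := (key _ (fun k hk => hk) m).2
    rwa [hm, mk8_bits] at this

theorem commute_fixed (h : phiZ (repKb i) (repX i j) = true) {x : G} (hx : x ∈ Q)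
    (hf : D.act s (π x) = π x) : x * s = s * x :=
  (N.phi x hx hf).2 (N.phiZ_all h hf)

theorem imList_fixed {n : ℕ} (hn : n ∈ imList (repF i)) : ∃ v : V8, v.bits = n ∧ D.act s v = v := by
  obtain ⟨u, rfl⟩ := N.mem_imList.1 hn
  exact ⟨_, rfl, by rw [(D.act_iso N.pair.comm).add, N.pair.act_invol D, add_comm]⟩

/-- An element of `C(z)` commuting with the action of `s` can be changed to centralise `s`. -/
theorem exists_centralizing (h : phiZ (repKb i) (repX i j) = true)
    (hzs : ¬ ∃ k, k * z * k⁻¹ = z * s) {c : G} (hc : c * z = z * c)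
    (hcs : compN (D.code c) (D.code s) = compN (D.code s) (D.code c)) :
    ∃ c', c' * z = z * c' ∧ c' * s = s * c' ∧ ∀ v, D.act c' v = D.act c v := by
  have hs := N.pair.comm
  have hcv : ∀ v, D.act c (D.act s v) = D.act s (D.act c v) := by
    intro v
    rw [← D.act_mul hc hs, ← D.act_mul hs hc]
    refine enc_inj (D.act_iso (Commute.mul_left hc hs).eq) (D.act_iso (Commute.mul_left hs hc).eq) ?_ v
    show D.code (c * s) = D.code (s * c)
    rw [D.code_mul hc hs, D.code_mul hs hc, hcs]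
  have hs' : (c * s * c⁻¹) * z = z * (c * s * c⁻¹) :=
    ((Commute.mul_left hc hs).mul_left (Commute.inv_left hc)).eq
  have ha : c * s * c⁻¹ * s ∈ Q := by
    refine D.mem_of_act (Commute.mul_left hs' hs).eq fun v => ?_
    rw [D.act_mul hs' hs, D.act_conj hc hs, hcv, (D.act_cancel hc _).2, N.pair.act_invol D]
  have hperp : ∀ k ∈ repKb i, bN (π (c * s * c⁻¹ * s)).bits k = false := by
    intro k hk
    have hb := List.all_eq_true.1 rep_basis i (List.mem_range.2 N.hi)
    simp only [Bool.and_eq_true, List.all_eq_true, decide_eq_true_eq, beq_iff_eq] at hb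
    obtain ⟨hk256, hkf⟩ := hb.1.1.1.1 k hk
    have hfix : D.act s (mk8 k) = mk8 k :=
      V8.ext_bits ((show onN (D.act s) k = k by rw [N.onN_act hk256, hkf]).trans (bits_mk8 hk256).symm)
    have hy := D.sec_mem (mk8 k)
    have h1 : Commute (D.sec (mk8 k)) s := N.commute_fixed h hy (by rw [D.π_sec, hfix])
    have hci := (Commute.inv_left hc).eq
    have h2 : Commute (c⁻¹ * D.sec (mk8 k) * c⁻¹⁻¹) s := by
      refine N.commute_fixed h (D.sub.conj_mem hci hy) ?_
      rw [← D.act_π hci hy, D.π_sec]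
      calc D.act s (D.act c⁻¹ (mk8 k))
          = D.act c⁻¹ (D.act c (D.act s (D.act c⁻¹ (mk8 k)))) := ((D.act_cancel hc _).1).symm
        _ = D.act c⁻¹ (mk8 k) := by rw [hcv, (D.act_cancel hc _).2, hfix]
    have h3 : Commute (D.sec (mk8 k)) (c * s * c⁻¹) := by
      show _ = _
      calc D.sec (mk8 k) * (c * s * c⁻¹) = c * (c⁻¹ * D.sec (mk8 k) * c⁻¹⁻¹ * s) * c⁻¹ := by group
        _ = c * s * c⁻¹ * D.sec (mk8 k) := by rw [h2.eq]; group
    have := (D.commute_iff ha hy).1 ((h3.mul_right h1).symm).eq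
    rwa [D.π_sec, ← bN_bits, bits_mk8 hk256] at this
  have hex := List.all_eq_true.1 (List.all_eq_true.1 rep_extra.1 i (List.mem_range.2 N.hi))
    (π (c * s * c⁻¹ * s)).bits (List.mem_range.2 (V8.bits_lt _))
  simp only [Bool.or_eq_true, List.any_eq_true, List.contains_iff_mem] at hex
  rcases hex with ⟨k, hk, hkb⟩ | hW
  · rw [hperp k hk] at hkb; exact absurd hkb (by decide)
  obtain ⟨u, hu⟩ := N.mem_imList.1 hW
  obtain ⟨hxQ, hxπ⟩ := comm_lift N.pair D u
  rcases D.eq_or_eq_of_π_eq hxQ ha (hxπ.trans (V8.ext_bits hu)) with e | e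
  · have e' : c * s * c⁻¹ = D.sec u * s * (D.sec u)⁻¹ := mul_right_cancel e
    refine ⟨(D.sec u)⁻¹ * c, (Commute.mul_left (Commute.inv_left (D.Q_comm (D.sec_mem u))) hc).eq, ?_,
      fun v => ?_⟩
    · calc (D.sec u)⁻¹ * c * s = (D.sec u)⁻¹ * (c * s * c⁻¹) * c := by group
        _ = s * ((D.sec u)⁻¹ * c) := by rw [e']; group
    · rw [D.act_mul (Commute.inv_left (D.Q_comm (D.sec_mem u))).eq hc,
        D.act_of_mem (inv_mem (D.sec_mem u))]
  · refine absurd ?_ hzs
    rw [← mul_assoc] at e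
    have e' : c * s * c⁻¹ = z * (D.sec u * s * (D.sec u)⁻¹) := mul_right_cancel e
    refine ⟨(D.sec u)⁻¹ * c * g, ?_⟩
    calc (D.sec u)⁻¹ * c * g * z * ((D.sec u)⁻¹ * c * g)⁻¹
        = (D.sec u)⁻¹ * (c * (g * z * g⁻¹) * c⁻¹) * D.sec u := by group
      _ = (D.sec u)⁻¹ * z * D.sec u * s := by rw [N.pair.eq, e']; group
      _ = z * s := by rw [(Commute.inv_left (D.Q_comm (D.sec_mem u))).eq]; group

end Normal

namespace IsPair

variable {s g : G} (P : IsPair z s g) (D : Data0 z Q π) (hwc : WClosed z Q)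
include P D hwc

theorem kind [Finite G] :
    (64 ≤ Nat.card (centQ Q s) ∧ Nat.card (centQ Q s) ≤ 128) ∨ Nat.card (centQ Q s) = 32 ∨
      Nat.card (centQ Q s) = 16 := by
  obtain ⟨c, hc, i, j, N⟩ := P.exists_normal D hwc
  rw [P.card_centQ_conj D hc]
  rcases N.kind with h | h | h
  · exact Or.inl h.2
  · exact Or.inr (Or.inl h.2.2.2)
  · exact Or.inr (Or.inr h.2.2)

theorem wN_mem [Finite G] :
    (wN (D.code s) = 4 ∧ 64 ≤ Nat.card (centQ Q s)) ∨ wN (D.code s) = 16 := by
  obtain ⟨c, hc, i, j, N⟩ := P.exists_normal D hwc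
  rw [P.card_centQ_conj D hc, ← D.wN_conj hc P.comm, N.wN_code]
  rcases N.kind with h | h | h
  · exact Or.inl ⟨if_pos h.1, h.2.1⟩
  · exact Or.inr (if_neg (by omega))
  · exact Or.inr (if_neg (by omega))

theorem exists_nonab [Finite G] (h : 64 ≤ Nat.card (centQ Q s)) :
    ∃ a ∈ centQ Q s, ∃ b ∈ centQ Q s, a * b ≠ b * a := by
  obtain ⟨c, hc, i, j, N⟩ := P.exists_normal D hwc
  rw [P.card_centQ_conj D hc] at h
  obtain ⟨a, ha, b, hb, hab⟩ := N.nonab (by rcases N.kind with h' | h' | h' <;> omega)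
  have back : ∀ x ∈ centQ Q (c * s * c⁻¹), c⁻¹ * x * c ∈ centQ Q s := fun x hx => by
    obtain ⟨hxQ, hxs⟩ := mem_centQ.1 hx
    refine mem_centQ.2 ⟨?_, ?_⟩
    · simpa using D.sub.conj_mem (Commute.inv_left hc).eq hxQ
    · calc c⁻¹ * x * c * s = c⁻¹ * (x * (c * s * c⁻¹)) * c := by group
        _ = s * (c⁻¹ * x * c) := by rw [hxs]; group
  refine ⟨_, back a ha, _, back b hb, fun e => hab ?_⟩
  calc a * b = c * (c⁻¹ * a * c * (c⁻¹ * b * c)) * c⁻¹ := by group
    _ = b * a := by rw [e]; group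

omit hwc in
/-- The element `s` lies in the centraliser of `z` in the conjugate. -/
theorem s_mem_centP : s ∈ centP Q z g := mem_centP.2 ⟨by rw [P.inv_s_g]; exact D.sub.z_mem, P.comm⟩

theorem code_s_ne : D.code s ≠ idN := fun e => P.s_not_mem D hwc (D.mem_of_act P.comm fun v =>
  enc_inj (D.act_iso P.comm) ⟨fun _ _ => rfl, fun _ => rfl⟩ (e.trans enc_id.symm) v)

omit hwc in
theorem code_s_sq : compN (D.code s) (D.code s) = idN := by
  rw [← D.code_mul P.comm P.comm, P.s_mul D, D.code_one]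

/-- The codes of the centraliser in the conjugate, counted. -/
theorem card_codes [Finite G] :
    Nat.card ↥(D.code '' (centP Q z g : Set G)) * Nat.card (interQ Q g) =
      Nat.card (centP Q z g) := by
  rw [← P.card_image_mul D hwc]
  congr 1
  refine (Nat.card_congr (Equiv.ofBijective
    (fun f : ↥(Set.range fun n : centP Q z g => fun v => D.act (n : G) v) =>
      (⟨enc f.1, by obtain ⟨_, n, rfl⟩ := f; exact ⟨n, n.2, rfl⟩⟩ :
        ↥(D.code '' (centP Q z g : Set G)))) ⟨?_, ?_⟩)).symm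
  · rintro ⟨_, n, rfl⟩ ⟨_, m, rfl⟩ h
    refine Subtype.ext (funext fun v => ?_)
    exact enc_inj (D.act_iso (mem_centP.1 n.2).2) (D.act_iso (mem_centP.1 m.2).2)
      (congrArg Subtype.val h) v
  · rintro ⟨_, n, hn, rfl⟩
    exact ⟨⟨_, ⟨n, hn⟩, rfl⟩, rfl⟩

end IsPair

end CfsgLib.CoOneReduce
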