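import Cfsg.Agent.CoOneReduce.Four
import Cfsg.Agent.ZStar.Theorem
import Cfsg.Agent.Inv53.Constrained
import Cfsg.Agent.Components.PLocal
import Cfsg.Agent.Forms4.POmegaOrders
import Cfsg.Prelude.Def_CaseTheorems

/-!
# The centraliser hypothesis of the first Conway group gives the large extraspecial hypothesis
-/

set_option autoImplicit false
set_option linter.style.haveILetI false

namespace CfsgLib.CoOneReduce

open CfsgLib.LargeExtraspecial CfsgLib.ConwayType

variable {G : Type*} [Group G] [Finite G]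

theorem omega_plus_simple :
    IsSimpleGroup (Cfsg.Omega (ZMod 2) (Cfsg.quadFormPlus 4 (ZMod 2))) := by
  rw [← CfsgLib.StdForms.coe_plusQ 4]
  have hc : Subgroup.center (Cfsg.Omega (ZMod 2) ⇑(CfsgLib.StdForms.plusQ 4 (ZMod 2))) = ⊥ :=
    Subgroup.card_eq_one.1 (CfsgLib.Forms4.card_center_omega_one
      (CfsgLib.StdForms.plusQ_nondegenerate 4) (by simp)
      (CfsgLib.Forms4.plusPairs 4 (by norm_num)) fun _ _ _ => by decide)
  have h := CfsgLib.Forms4.isSimpleGroup_pOmegaPlus (F := ZMod 2) 4 le_rfl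
  rw [← CfsgLib.StdForms.coe_plusQ] at h
  haveI := h
  exact (QuotientGroup.quotientBot.symm.trans (QuotientGroup.quotientMulEquivOfEq hc.symm) :
    Cfsg.Omega (ZMod 2) ⇑(CfsgLib.StdForms.plusQ 4 (ZMod 2)) ≃*
      Cfsg.POmega (ZMod 2) ⇑(CfsgLib.StdForms.plusQ 4 (ZMod 2))).isSimpleGroup

/-- The generalised Fitting subgroup of a constrained centraliser is its `2`-core. -/
theorem generalizedFitting_centralizer {C : Type*} [Group C] [Finite C]
    (hcon : Cfsg.IsPConstrained 2 C)
    (e : C ⧸ Cfsg.pCore 2 C ≃* Cfsg.Omega (ZMod 2) (Cfsg.quadFormPlus 4 (ZMod 2))) :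
    Cfsg.generalizedFittingSubgroup C = Cfsg.pCore 2 C := by
  haveI := Fact.mk Nat.prime_two
  set Q := Cfsg.pCore 2 C with hQ
  haveI := omega_plus_simple
  haveI : IsSimpleGroup (C ⧸ Q) := e.isSimpleGroup
  have heven : 2 ∣ Nat.card (C ⧸ Q) := by
    rw [Nat.card_congr e.toEquiv, CfsgLib.OPlusEightTwo.card_omega]; norm_num
  have hodd : ∀ N : Subgroup C, N.Normal → (Nat.card N).Coprime 2 → N = ⊥ := by
    intro N hN hcop
    haveI := hN
    have hNQ : N ≤ Q := by
      have hmap : (N.map (QuotientGroup.mk' Q)).Normal := hN.map _ (QuotientGroup.mk'_surjective Q)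
      rcases hmap.eq_bot_or_eq_top with h | h
      · rwa [Subgroup.map_eq_bot_iff, QuotientGroup.ker_mk'] at h
      · exfalso
        have hd := N.card_map_dvd (QuotientGroup.mk' Q)
        rw [h, Subgroup.card_top] at hd
        have h2 := hcop.coprime_dvd_left (heven.trans hd)
        norm_num at h2
    obtain ⟨n, hn⟩ := ((CfsgLib.Components.isPGroup_pCore (G := C) 2).to_le hNQ).exists_card_eq
    refine Subgroup.card_eq_one.1 ?_
    rcases Nat.eq_zero_or_pos n with rfl | hn0
    · simpa using hn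
    · have hd : 2 ∣ Nat.card N := by rw [hn]; exact dvd_pow_self 2 hn0.ne'
      exact absurd (hcop.coprime_dvd_left hd) (by norm_num)
  have hb : Cfsg.pPrimeCore 2 C = ⊥ :=
    hodd _ inferInstance (CfsgLib.PLocal.coprime_card_pPrimeCore 2 C)
  have hcen : Subgroup.centralizer (Q : Set C) ≤ Q := CfsgLib.Inv53.centralizer_pCore_le hcon hb
  refine CfsgLib.Components.generalizedFitting_eq_pCore 2 ?_ hodd
  refine CfsgLib.Components.layer_eq_bot_iff.2 fun L hL => CfsgLib.Components.IsComponent.not_isSolvable hL ?_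
  have h1 : L ≤ Q := (CfsgLib.Components.IsComponent.le_layer hL).trans
    ((CfsgLib.Components.layer_le_centralizer_fittingSubgroup.trans (Subgroup.centralizer_le
      (SetLike.coe_subset_coe.2 (CfsgLib.Components.pCore_le_fittingSubgroup 2)))).trans hcen)
  exact IsNilpotent.to_isSolvable (h := ((CfsgLib.Components.isPGroup_pCore (G := C) 2).to_le h1).isNilpotent)

/-- Under the centraliser hypothesis some other conjugate of the involution lies in the `2`-core
of the centraliser. -/
theorem exists_conj_mem (hO : Cfsg.oddCore G = ⊥) (hZ : Subgroup.center G = ⊥) (z : G)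
    (hz : orderOf z = 2) (Q : Subgroup (Subgroup.centralizer ({z} : Set G))) [Q.Normal]
    (hF : Cfsg.generalizedFittingSubgroup (Subgroup.centralizer ({z} : Set G)) = Q)
    (hQ : Cfsg.IsExtraspecial 2 Q) (hcard : Nat.card Q = 2 ^ 9)
    (e : (Subgroup.centralizer ({z} : Set G)) ⧸ Q ≃*
      Cfsg.Omega (ZMod 2) (Cfsg.quadFormPlus 4 (ZMod 2))) :
    ∃ g : G, (∃ hq : g * z * g⁻¹ ∈ Subgroup.centralizer ({z} : Set G),
      (⟨g * z * g⁻¹, hq⟩ : Subgroup.centralizer ({z} : Set G)) ∈ Q) ∧ g * z * g⁻¹ ≠ z := by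
  by_contra hcon
  obtain ⟨π, D⟩ := exists_data0 z hz Q hF hQ hcard e
  set Q' := Q.map (Subgroup.centralizer ({z} : Set G)).subtype
  have hwc : WClosed z Q' := by
    rintro g ⟨⟨x, hx⟩, hxQ, (rfl : x = g * z * g⁻¹)⟩
    by_contra hne
    exact hcon ⟨g, ⟨hx, hxQ⟩, hne⟩
  have hiso : Cfsg.IsIsolatedInvolution z := by
    refine ⟨hz, fun g hg => ?_⟩
    by_contra hne
    exact false_of_pair (⟨rfl, hg.eq.symm, hne⟩ : IsPair z (g * z * g⁻¹) g) D hwc
  have hmem := CfsgLib.ZStar.mem_center_of_isolated hiso fun N hN hodd => by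
    haveI := hN
    have := CfsgLib.PLocal.le_pPrimeCore (Nat.coprime_two_right.2 hodd)
    rw [show Cfsg.pPrimeCore 2 G = ⊥ from hO] at this
    exact le_bot_iff.1 this
  rw [hZ, Subgroup.mem_bot] at hmem
  rw [hmem, orderOf_one] at hz
  exact absurd hz (by norm_num)

end CfsgLib.CoOneReduce
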