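import Cfsg.Agent.CoOneReduce.Fix
import Cfsg.Agent.CoOneReduce.Flag

/-!
# A second conjugate brought to one of the representatives
-/

set_option autoImplicit false
set_option linter.unusedSectionVars false

namespace CfsgLib.CoOneReduce

open CfsgLib.LargeExtraspecial CfsgLib.ConwayType

theorem exists_mask (f : ℕ → Bool) : ∀ n, ∃ m < 2 ^ n, ∀ r < n, m.testBit r = f r
  | 0 => ⟨0, by norm_num, fun r hr => absurd hr (by omega)⟩
  | n + 1 => by
    obtain ⟨m, hm, hb⟩ := exists_mask f n
    refine ⟨if f n then 2 ^ n + m else m, ?_, fun r hr => ?_⟩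
    · rw [pow_succ]; split <;> omega
    · rcases Nat.lt_or_ge r n with h | h
      · split
        · rw [Nat.testBit_two_pow_add_gt h]; exact hb r h
        · exact hb r h
      · obtain rfl : r = n := by omega
        split
        · next hf => rw [Nat.testBit_two_pow_add_eq, Nat.testBit_lt_two_pow hm, hf]; rfl
        · next hf => rw [Nat.testBit_lt_two_pow hm]; simpa using hf

theorem mk8_bits (v : V8) : mk8 v.bits = v := V8.ext_bits (bits_mk8 v.bits_lt)

theorem mk8_xor {u v : ℕ} (hu : u < 256) (hv : v < 256) : mk8 (u ^^^ v) = mk8 u + mk8 v :=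
  V8.ext_bits (by rw [bits_add, bits_mk8 hu, bits_mk8 hv, bits_mk8 (Nat.xor_lt_two_pow (n := 8) hu hv)])

theorem apN_lt : ∀ {l : List ℕ}, (∀ n ∈ l, n < 256) → ∀ k, apN l k < 256
  | [], _, _ => by simp [apN_nil]
  | x :: l, h, k => by
    rw [apN_cons]
    exact Nat.xor_lt_two_pow (n := 8) (by split; exacts [h x List.mem_cons_self, by norm_num])
      (apN_lt (fun n hn => h n (List.mem_cons_of_mem x hn)) _)

variable {G : Type*} [Group G] {z : G} {Q : Subgroup G} {π : G → V8}

/-- The code of the action. -/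
noncomputable def Data0.code (D : Data0 z Q π) (c : G) : List ℕ := enc (D.act c)

/-- A pair with `s` acting as a representative, with a known functional. -/
structure Normal (D : Data0 z Q π) (s g : G) (i j : ℕ) : Prop where
  pair : IsPair z s g
  code : D.code s = repF i
  hi : i < 5
  hj : j < (repXs i).length
  phi : ∀ x ∈ Q, D.act s (π x) = π x → (x * s = s * x ↔ b8 (π x) (mk8 (repX i j)) = false)

/-- A pair acting as a representative has one of the listed functionals. -/
theorem IsPair.exists_phi_vec {s g : G} (P : IsPair z s g) (D : Data0 z Q π) {i : ℕ}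
    (hi : i < 5) (hc : D.code s = repF i) : ∃ j, Normal D s g i j := by
  obtain ⟨φ, hφ, hadd, hq⟩ := P.exists_phi D
  have hf := D.act_iso P.comm
  have hb := List.all_eq_true.1 rep_basis i (List.mem_range.2 hi)
  simp only [Bool.and_eq_true, List.all_eq_true, decide_eq_true_eq, beq_iff_eq, Bool.or_eq_true,
    bne_iff_ne, List.contains_iff_mem, List.mem_range, Bool.not_eq_true', List.any_eq_true] at hb
  obtain ⟨⟨⟨⟨hK, hspan⟩, hlen⟩, hus⟩, hfun⟩ := hb
  have hfix : ∀ n, n < 256 → apN (repF i) n = n → D.act s (mk8 n) = mk8 n := fun n hn e => by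
    rw [← hc, Data0.code, apN_enc' hf n hn] at e
    exact V8.ext_bits (e.trans (bits_mk8 hn).symm)
  obtain ⟨m, hm, hmb⟩ := exists_mask (fun r => φ (mk8 ((repKb i).getD r 0))) (repKb i).length
  rcases hfun m hm with h | ⟨x, hx, hxb⟩
  · rw [← Bool.not_eq_true, List.all_eq_true] at h
    refine absurd (fun r hr => ?_) h
    rw [List.mem_range] at hr
    rw [beq_iff_eq, hmb r (lt_of_lt_of_le hr hlen)]
    obtain ⟨hu, e⟩ := hus r hr
    rw [← hc, Data0.code, apN_enc' hf _ hu] at e
    have := hq (mk8 ((repUs i).getD r 0))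
    have hon : onN (D.act s) ((repUs i).getD r 0) ^^^ (repUs i).getD r 0 =
        (D.act s (mk8 ((repUs i).getD r 0)) + mk8 ((repUs i).getD r 0)).bits := by
      rw [bits_add, bits_mk8 hu]; rfl
    rw [← e, hon, mk8_bits, qN_bits]
    exact this
  · obtain ⟨j, hj, rfl⟩ : ∃ j < (repXs i).length, repX i j = x := by
      obtain ⟨j, hj, e⟩ := List.getElem_of_mem hx
      exact ⟨j, hj, by rw [repX, ← List.getD_eq_getElem _ 0 hj] at *; exact e⟩
    have hxlt : repX i j < 256 := by
      have h := List.all_eq_true.1 rep_bases i (List.mem_range.2 hi)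
      simp only [Bool.and_eq_true, List.all_eq_true, decide_eq_true_eq, List.mem_range] at h
      exact (h.2 j hj).1.1
    have h0 : φ 0 = false := by
      have := hadd 0 0 hf.zero hf.zero
      rw [add_zero] at this
      cases h : φ 0 <;> simp [h] at this ⊢
    have key : ∀ l : List ℕ, (∀ k ∈ l, ∃ r < (repKb i).length, (repKb i).getD r 0 = k) → ∀ k,
        apN l k < 256 ∧ D.act s (mk8 (apN l k)) = mk8 (apN l k) ∧
          φ (mk8 (apN l k)) = b8 (mk8 (apN l k)) (mk8 (repX i j)) := by
      intro l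
      induction l with
      | nil =>
        intro _ k
        rw [apN_nil]
        exact ⟨by norm_num, hf.zero, h0.trans (b8_zero_left _).symm⟩
      | cons a l ih =>
        intro hl k
        obtain ⟨h1, h2, h3⟩ := ih (fun b hb => hl b (List.mem_cons_of_mem a hb)) (k / 2)
        obtain ⟨r, hr, hra⟩ := hl a List.mem_cons_self
        obtain ⟨ha, hfa⟩ := hK a (by
          rw [← hra, List.getD_eq_getElem _ 0 hr]; exact List.getElem_mem hr)
        rw [apN_cons]
        split
        · refine ⟨Nat.xor_lt_two_pow (n := 8) ha h1, ?_, ?_⟩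
          · rw [mk8_xor ha h1, hf.add, h2, hfix a ha hfa]
          · rw [mk8_xor ha h1, hadd _ _ (hfix a ha hfa) h2, h3, b8_add_left]
            congr 1
            have := hxb r hr
            rw [hra, hmb r hr, hra] at this
            rw [← this, ← bN_bits, bits_mk8 ha, bits_mk8 hxlt]
        · rw [Nat.zero_xor]; exact ⟨h1, h2, h3⟩
    refine ⟨j, P, hc, hi, hj, fun y hy hfy => ?_⟩
    rw [hφ y hy hfy]
    have hmem : (π y).bits ∈ spanN (repKb i) := by
      rcases hspan _ (π y).bits_lt with h | h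
      · refine absurd ?_ h
        rw [← hc, Data0.code, apN_enc hf, hfy]
      · exact h
    obtain ⟨k, hk⟩ := (mem_spanN _ _).1 hmem
    have h := (key (repKb i) (fun a ha => by
      obtain ⟨r, hr, e⟩ := List.getElem_of_mem ha
      exact ⟨r, hr, by rw [List.getD_eq_getElem _ 0 hr]; exact e⟩) k).2.2
    rw [hk, mk8_bits] at h
    rw [h]

/-- Every pair is conjugate in the centraliser of `z` to a normal one. -/
theorem IsPair.exists_normal [Finite G] {s g : G} (P : IsPair z s g) (D : Data0 z Q π)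
    (hwc : WClosed z Q) : ∃ c, c * z = z * c ∧ ∃ i j, Normal D (c * s * c⁻¹) (c * g) i j := by
  obtain ⟨c, hc, i, hi, e⟩ := D.exists_rep_conj P.comm (P.s_mul D) (P.s_not_mem D hwc)
  obtain ⟨j, hN⟩ := (P.conj hc).exists_phi_vec D hi e
  exact ⟨c, hc, i, j, hN⟩

namespace Normal

variable {s g : G} {i j : ℕ} {D : Data0 z Q π} (N : Normal D s g i j) (hwc : WClosed z Q)
include N

theorem x_lt : repX i j < 256 := by
  have h := List.all_eq_true.1 rep_bases i (List.mem_range.2 N.hi)
  simp only [Bool.and_eq_true, List.all_eq_true, decide_eq_true_eq, List.mem_range] at h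
  exact (h.2 j N.hj).1.1

theorem bas_ok : (∀ n ∈ repBas i j, n < 256) ∧ (repCo i j).map (apN (repBas i j)) = idN := by
  have h := List.all_eq_true.1 rep_bases i (List.mem_range.2 N.hi)
  simp only [Bool.and_eq_true, List.all_eq_true, decide_eq_true_eq, beq_iff_eq, List.mem_range] at h
  exact ⟨(h.2 j N.hj).1.2, (h.2 j N.hj).2⟩

theorem onN_act {n : ℕ} (hn : n < 256) : onN (D.act s) n = apN (repF i) n := by
  rw [← N.code, Data0.code, apN_enc' (D.act_iso N.pair.comm) n hn]

theorem mem_kerList {v : V8} :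
    v.bits ∈ kerList (repF i) (repX i j) ↔ D.act s v = v ∧ b8 v (mk8 (repX i j)) = false := by
  rw [kerList, List.mem_filter, List.mem_range, Bool.and_eq_true, beq_iff_eq, ← N.code, Data0.code,
    apN_enc (D.act_iso N.pair.comm), ← bN_bits, bits_mk8 N.x_lt]
  simp only [V8.bits_lt, true_and, Bool.not_eq_true']
  exact and_congr_left fun _ => ⟨V8.ext_bits, congrArg V8.bits⟩

theorem mem_centQ_iff {x : G} :
    x ∈ centQ Q s ↔ x ∈ Q ∧ (π x).bits ∈ kerList (repF i) (repX i j) := by
  rw [mem_centQ, N.mem_kerList]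
  refine and_congr_right fun hx => ⟨fun h => ?_, fun h => (N.phi x hx h.1).2 h.2⟩
  have hf := N.pair.fixed_of_commute D hx h
  exact ⟨hf, (N.phi x hx hf).1 h⟩

theorem card_centQ [Finite G] : Nat.card (centQ Q s) = 2 * (kerList (repF i) (repX i j)).length := by
  classical
  rw [N.pair.card_lifts D (p := fun v => v.bits ∈ kerList (repF i) (repX i j))
    fun x => N.mem_centQ_iff]
  congr 1
  have hnd : (kerList (repF i) (repX i j)).Nodup := (List.nodup_range).filter _
  rw [← List.toFinset_card_of_nodup hnd,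
    ← Finset.card_image_of_injective _ (fun a b => V8.ext_bits (u := a) (v := b))]
  refine congrArg Finset.card (Finset.ext fun n => ?_)
  simp only [Finset.mem_image, Finset.mem_filter, Finset.mem_univ, true_and, List.mem_toFinset]
  refine ⟨?_, fun h => ⟨mk8 n, ?_⟩⟩
  · rintro ⟨v, hv, rfl⟩; exact hv
  · have hn : n < 256 := List.mem_range.1 (List.mem_filter.1 h).1
    rw [bits_mk8 hn]; exact ⟨h, rfl⟩

theorem mem_imList {n : ℕ} : n ∈ imList (repF i) ↔ ∃ u : V8, (D.act s u + u).bits = n := by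
  have hf := D.act_iso N.pair.comm
  have hlist : (idN.map fun e => apN (repF i) e ^^^ e) =
      (basis8.map fun v => D.act s v + v).map V8.bits := by
    rw [← N.code, Data0.code, List.map_map, show idN = basis8.map V8.bits from rfl, List.map_map]
    exact List.map_congr_left fun v _ => by simp only [Function.comp_apply, bits_add, apN_enc hf]
  have hadd : ∀ u v, D.act s (u + v) + (u + v) = (D.act s u + u) + (D.act s v + v) := fun u v => by
    rw [hf.add]; abel
  have h0 : D.act s 0 + 0 = 0 := by rw [hf.zero, add_zero]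
  rw [imList, hlist, mem_spanN]
  simp only [apN_map, bitsum_map (f := fun v => D.act s v + v) hadd h0]
  refine ⟨fun ⟨k, h⟩ => ⟨_, h⟩, fun ⟨u, h⟩ => ⟨u.bits, by rw [bitsum_basis8]; exact h⟩⟩

omit N in
theorem comm_lift {s g : G} (P : IsPair z s g) (D : Data0 z Q π) (u : V8) :
    D.sec u * s * (D.sec u)⁻¹ * s ∈ Q ∧
      π (D.sec u * s * (D.sec u)⁻¹ * s) = D.act s u + u := by
  have hy := D.sec_mem u
  have hsy := D.sub.conj_mem P.comm hy
  have e : D.sec u * s * (D.sec u)⁻¹ * s = D.sec u * (s * D.sec u * s⁻¹)⁻¹ := by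
    rw [P.s_inv D, mul_inv_rev, mul_inv_rev, P.s_inv D]; group
  rw [e]
  exact ⟨mul_mem hy (inv_mem hsy), by
    rw [D.map_mul _ hy _ (inv_mem hsy), D.π_inv hsy, ← D.act_π P.comm hy, D.π_sec, add_comm]⟩

/-- With a nonzero functional, `z * s` is conjugate to `z` under an element of `Q`. -/
theorem exists_conj_zs (h : phiZ (repKb i) (repX i j) = false) :
    ∃ y ∈ Q, y * s * y⁻¹ = z * s := by
  have hb := List.all_eq_true.1 rep_basis i (List.mem_range.2 N.hi)
  simp only [Bool.and_eq_true, List.all_eq_true, decide_eq_true_eq, beq_iff_eq] at hb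
  rw [phiZ, ← Bool.not_eq_true, List.all_eq_true] at h
  push Not at h
  obtain ⟨k, hk, hkb⟩ := h
  obtain ⟨hk256, hkf⟩ := hb.1.1.1.1 k hk
  simp only [Bool.not_eq_true', ne_eq, Bool.not_eq_false] at hkb
  have hfix : D.act s (mk8 k) = mk8 k :=
    V8.ext_bits ((show onN (D.act s) k = k by rw [N.onN_act hk256, hkf]).trans (bits_mk8 hk256).symm)
  have hy := D.sec_mem (mk8 k)
  refine ⟨_, hy, ?_⟩
  have hne : ¬ (D.sec (mk8 k) * s = s * D.sec (mk8 k)) := by
    rw [N.phi _ hy (by rw [D.π_sec, hfix]), D.π_sec, ← bN_bits, bits_mk8 hk256, bits_mk8 N.x_lt, hkb]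
    simp
  rcases N.pair.conj_fixed D hy (by rw [D.π_sec, hfix]) with e | e
  · exact absurd (mul_inv_eq_iff_eq_mul.1 e).symm hne
  · calc D.sec (mk8 k) * s * (D.sec (mk8 k))⁻¹
        = D.sec (mk8 k) * (s * (D.sec (mk8 k))⁻¹ * s⁻¹) * s := by group
      _ = D.sec (mk8 k) * (z * D.sec (mk8 k))⁻¹ * s := by rw [← e]; group
      _ = z * s := by
          rw [mul_inv_rev, inv_eq_self_of_two D.sub.two, ← mul_assoc, mul_inv_cancel, one_mul]

include hwc in
theorem mem_candL {x : G} (hx : x ∈ interQ Q g) (h0 : π x ≠ 0) : (π x).bits ∈ candL i j := by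
  obtain ⟨hxQ, -⟩ := mem_interQ.1 hx
  have hU := (N.mem_centQ_iff.1 (N.pair.interQ_le_centQ D hwc hx)).2
  rw [candL, candOf, List.mem_filter]
  simp only [Bool.and_eq_true, bne_iff_ne, Bool.not_eq_true', List.all_eq_true, Bool.or_eq_true]
  refine ⟨hU, ⟨⟨⟨fun e => h0 (V8.ext_bits e), ?_⟩, fun u hu => ?_⟩, ?_⟩⟩
  · rw [qN_bits]; exact (D.sq x hxQ).1 (N.pair.interQ_sq D hwc hx)
  · have hu256 : u < 256 := List.mem_range.1 (List.mem_filter.1 hu).1
    have hy : D.sec (mk8 u) ∈ centQ Q s :=
      N.mem_centQ_iff.2 ⟨D.sec_mem _, by rw [D.π_sec, bits_mk8 hu256]; exact hu⟩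
    have := (D.commute_iff hxQ (D.sec_mem (mk8 u))).1 (N.pair.interQ_central D hwc hx hy).symm
    rwa [D.π_sec, ← bN_bits, bits_mk8 hu256] at this
  · by_cases hz : phiZ (repKb i) (repX i j) = true
    · exact Or.inl hz
    · refine Or.inr ?_
      rw [← Bool.not_eq_true, List.contains_iff_mem, N.mem_imList]
      rintro ⟨u, hu⟩
      obtain ⟨y, -, hy⟩ := N.exists_conj_zs (by simpa using hz)
      have e : D.act s u + u = π x := V8.ext_bits hu
      refine h0 (e.symm.trans (N.pair.interV_comm_eq_zero hwc D ⟨y * g, ?_⟩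
        (by rw [e]; exact mem_interV.2 ⟨x, hx, rfl⟩)))
      rw [← hy, ← N.pair.eq]; group

include hwc in
/-- The induced maps lie in the stabiliser lists. -/
theorem mem_repStab {U0 : List ℕ}
    (hA : ∀ d ∈ U0, d = 0 ∨ ∃ x ∈ interQ Q g, (π x).bits = d)
    (hB : ∀ x ∈ interQ Q g, π x = 0 ∨ (π x).bits ∈ U0) {n : G} (hn : n ∈ centP Q z g) :
    D.code n ∈ repStab i j U0 := by
  obtain ⟨hnP, hnz⟩ := mem_centP.1 hn
  have hf := D.act_iso hnz
  rw [Data0.code, repStab, ← N.code]
  refine mem_stabList hf (D.act_iso N.pair.comm) N.bas_ok.1 N.bas_ok.2 (fun d hd => ?_)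
    (fun u hu => ?_) fun v => ?_
  · rcases hA d hd with rfl | ⟨x, hx, rfl⟩
    · rw [onN, show mk8 0 = (0 : V8) from rfl, hf.zero]; rfl
    · rw [onN, mk8_bits, N.pair.act_interQ D hwc hn hx]
  · rw [N.code] at hu
    have hu256 : u < 256 := List.mem_range.1 (List.mem_filter.1 hu).1
    have hy : D.sec (mk8 u) ∈ centQ Q s :=
      N.mem_centQ_iff.2 ⟨D.sec_mem _, by rw [D.π_sec, bits_mk8 hu256]; exact hu⟩
    obtain ⟨x, hx, e⟩ := N.pair.act_centQ D hwc hn hy
    rw [D.π_sec] at e
    rcases hB x hx with h | h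
    · exact Or.inl (by rw [onN, e, h, add_zero, bits_mk8 hu256])
    · exact Or.inr ⟨_, h, by rw [onN, e, bits_add, bits_mk8 hu256]⟩
  · have := N.pair.P_comm_s D hnP
    rw [← D.act_mul hnz N.pair.comm, this, D.act_mul N.pair.comm hnz]

end Normal

end CfsgLib.CoOneReduce
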