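import Cfsg.Agent.CoOneReduce.Setup

/-!
# Two commuting conjugates of `z` when `z` is weakly closed in its extraspecial subgroup
-/

set_option autoImplicit false
set_option linter.unusedSectionVars false

namespace CfsgLib.CoOneReduce

open CfsgLib.LargeExtraspecial CfsgLib.ConwayType

variable {G : Type*} [Group G]

/-- `z` is the only conjugate of itself in `Q`. -/
def WClosed (z : G) (Q : Subgroup G) : Prop := ∀ g : G, g * z * g⁻¹ ∈ Q → g * z * g⁻¹ = z

/-- A second conjugate commuting with `z`. -/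
structure IsPair (z s g : G) : Prop where
  eq : g * z * g⁻¹ = s
  comm : s * z = z * s
  ne : s ≠ z

/-- The centraliser of `s` in `Q`. -/
def centQ (Q : Subgroup G) (s : G) : Subgroup G := Q ⊓ Subgroup.centralizer ({s} : Set G)

/-- The centraliser of `z` in the conjugate of `Q` by `g`. -/
def centP (Q : Subgroup G) (z g : G) : Subgroup G :=
  Q.comap (MulAut.conj g⁻¹).toMonoidHom ⊓ Subgroup.centralizer ({z} : Set G)

/-- The intersection of `Q` with its conjugate by `g`. -/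
def interQ (Q : Subgroup G) (g : G) : Subgroup G := Q ⊓ Q.comap (MulAut.conj g⁻¹).toMonoidHom

theorem mem_centQ {Q : Subgroup G} {s x : G} : x ∈ centQ Q s ↔ x ∈ Q ∧ x * s = s * x := by
  rw [centQ, Subgroup.mem_inf, Subgroup.mem_centralizer_singleton_iff]

theorem mem_centP {Q : Subgroup G} {z g x : G} :
    x ∈ centP Q z g ↔ g⁻¹ * x * g ∈ Q ∧ x * z = z * x := by
  simp [centP, Subgroup.mem_centralizer_singleton_iff]

theorem mem_interQ {Q : Subgroup G} {g x : G} : x ∈ interQ Q g ↔ x ∈ Q ∧ g⁻¹ * x * g ∈ Q := by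
  simp [interQ]

theorem card_eq_of_conj {A B : Subgroup G} (c : G) (h : ∀ x, x ∈ A ↔ c * x * c⁻¹ ∈ B) :
    Nat.card A = Nat.card B :=
  Nat.card_congr
    { toFun := fun x => ⟨c * x * c⁻¹, (h x).1 x.2⟩
      invFun := fun y => ⟨c⁻¹ * y * c, (h _).2 (by
        rw [show c * (c⁻¹ * y * c) * c⁻¹ = (y : G) by group]; exact y.2)⟩
      left_inv := fun x => Subtype.ext (show c⁻¹ * (c * x * c⁻¹) * c = x by group)
      right_inv := fun y => Subtype.ext (show c * (c⁻¹ * y * c) * c⁻¹ = y by group) }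

namespace IsPair

variable {z s g : G} {Q : Subgroup G} {π : G → V8}
variable (P : IsPair z s g) (D : Data0 z Q π) (hwc : WClosed z Q)
include P

/-- The pair seen from the other side. -/
theorem partner : IsPair z (g⁻¹ * z * g) g⁻¹ where
  eq := by rw [inv_inv]
  comm := by
    have h := P.comm
    rw [← P.eq] at h
    calc g⁻¹ * z * g * z = g⁻¹ * (z * (g * z * g⁻¹)) * g := by group
      _ = g⁻¹ * (g * z * g⁻¹ * z) * g := by rw [h]
      _ = z * (g⁻¹ * z * g) := by group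
  ne e := P.ne (by
    rw [← P.eq]
    calc g * z * g⁻¹ = g * (g⁻¹ * z * g) * g⁻¹ := by rw [e]
      _ = z := by group)

theorem conj_partner : g * (g⁻¹ * z * g) * g⁻¹ = z := by group

theorem inv_s_g : g⁻¹ * s * g = z := by rw [← P.eq]; group

/-- Conjugating a pair inside the centraliser of `z`. -/
theorem conj {c : G} (hc : c * z = z * c) : IsPair z (c * s * c⁻¹) (c * g) where
  eq := by rw [← P.eq]; group
  comm := ((Commute.mul_left hc P.comm).mul_left (Commute.inv_left hc)).eq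
  ne e := P.ne (by
    calc s = c⁻¹ * (c * s * c⁻¹) * c := by group
      _ = c⁻¹ * (c * z) := by rw [e, hc]; group
      _ = z := inv_mul_cancel_left c z)

include D

theorem s_mul : s * s = 1 := by
  rw [← P.eq, show g * z * g⁻¹ * (g * z * g⁻¹) = g * (z * z) * g⁻¹ by group, D.sub.mul_self]
  group

theorem s_inv : s⁻¹ = s := inv_eq_of_mul_eq_one_right (P.s_mul D)

/-- Conjugates of elements of the conjugate of `Q` by elements centralising `s` remain there. -/
theorem P_conj_mem {n x : G} (hn : n * s = s * n) (hx : g⁻¹ * x * g ∈ Q) :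
    g⁻¹ * (n * x * n⁻¹) * g ∈ Q := by
  have h : (g⁻¹ * n * g) * z = z * (g⁻¹ * n * g) := by
    rw [← P.inv_s_g]
    calc g⁻¹ * n * g * (g⁻¹ * s * g) = g⁻¹ * (n * s) * g := by group
      _ = g⁻¹ * s * g * (g⁻¹ * n * g) := by rw [hn]; group
  have := D.sub.conj_mem h hx
  rwa [show g⁻¹ * n * g * (g⁻¹ * x * g) * (g⁻¹ * n * g)⁻¹ = g⁻¹ * (n * x * n⁻¹) * g by group] at this

theorem P_comm_s {x : G} (hx : g⁻¹ * x * g ∈ Q) : x * s = s * x := by
  have h := D.Q_comm hx
  calc x * s = g * ((g⁻¹ * x * g) * (g⁻¹ * s * g)) * g⁻¹ := by group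
    _ = g * (g⁻¹ * s * g * (g⁻¹ * x * g)) * g⁻¹ := by rw [P.inv_s_g, h]
    _ = s * x := by group

theorem P_conj_eq {x y : G} (hx : g⁻¹ * x * g ∈ Q) (hy : g⁻¹ * y * g ∈ Q) :
    x * y * x⁻¹ = y ∨ x * y * x⁻¹ = s * y := by
  have e : g⁻¹ * x * g * (g⁻¹ * y * g) * (g⁻¹ * x * g)⁻¹ = g⁻¹ * (x * y * x⁻¹) * g := by group
  rcases D.sub.conj_eq hx hy with h | h <;> rw [e] at h
  · exact Or.inl (by simpa using h)
  · refine Or.inr ?_
    rw [← P.inv_s_g] at h
    calc x * y * x⁻¹ = g * (g⁻¹ * (x * y * x⁻¹) * g) * g⁻¹ := by group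
      _ = s * y := by rw [h]; group

include hwc

theorem s_not_mem : s ∉ Q := fun h => P.ne (by rw [← P.eq]; exact hwc g (P.eq.symm ▸ h))

theorem z_not_mem : g⁻¹ * z * g ∉ Q := (P.partner).s_not_mem D hwc

omit D in
/-- The only conjugate of `z` in the conjugate of `Q`. -/
theorem eq_s_of_conj {h : G} (hh : g⁻¹ * (h * z * h⁻¹) * g ∈ Q) : h * z * h⁻¹ = s := by
  have := hwc (g⁻¹ * h) (by rwa [show g⁻¹ * h * z * (g⁻¹ * h)⁻¹ = g⁻¹ * (h * z * h⁻¹) * g by group])
  rw [← P.eq]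
  calc h * z * h⁻¹ = g * (g⁻¹ * h * z * (g⁻¹ * h)⁻¹) * g⁻¹ := by group
    _ = g * z * g⁻¹ := by rw [this]

theorem eq_of_mem_interQ {x y : G} (hx : x ∈ interQ Q g) (hy : y ∈ interQ Q g) (e : π x = π y) :
    x = y := by
  rcases D.eq_or_eq_of_π_eq (mem_interQ.1 hx).1 (mem_interQ.1 hy).1 e with h | h
  · exact h.symm
  · refine absurd ?_ (P.z_not_mem D hwc)
    have := mul_mem hy (inv_mem hx)
    rw [h, mul_inv_cancel_right] at this
    exact (mem_interQ.1 this).2

theorem interQ_le_centQ : interQ Q g ≤ centQ Q s := fun _ hx =>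
  mem_centQ.2 ⟨(mem_interQ.1 hx).1, P.P_comm_s D (mem_interQ.1 hx).2⟩

theorem interQ_le_centP : interQ Q g ≤ centP Q z g := fun _ hx =>
  mem_centP.2 ⟨(mem_interQ.1 hx).2, D.Q_comm (mem_interQ.1 hx).1⟩

theorem interQ_sq {x : G} (hx : x ∈ interQ Q g) : x * x = 1 := by
  rcases D.sub.sq_eq (mem_interQ.1 hx).1 with h | h
  · exact h
  · refine absurd ?_ (P.z_not_mem D hwc)
    have := mul_mem hx hx
    rw [h] at this
    exact (mem_interQ.1 this).2

/-- The intersection is central in the centraliser of `s` in `Q`. -/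
theorem interQ_central {x y : G} (hx : x ∈ interQ Q g) (hy : y ∈ centQ Q s) : y * x = x * y := by
  obtain ⟨hyQ, hys⟩ := mem_centQ.1 hy
  have h : y * x * y⁻¹ ∈ interQ Q g :=
    mem_interQ.2 ⟨D.sub.conj_mem (D.Q_comm hyQ) (mem_interQ.1 hx).1,
      P.P_conj_mem D hys (mem_interQ.1 hx).2⟩
  rcases D.sub.conj_eq hyQ (mem_interQ.1 hx).1 with e | e
  · exact mul_inv_eq_iff_eq_mul.1 e
  · refine absurd ?_ (P.z_not_mem D hwc)
    have := mul_mem h (inv_mem hx)
    rw [e, mul_inv_cancel_right] at this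
    exact (mem_interQ.1 this).2

/-- The centraliser of `z` in the conjugate of `Q` fixes the coordinates of the intersection. -/
theorem act_interQ {n x : G} (hn : n ∈ centP Q z g) (hx : x ∈ interQ Q g) :
    D.act n (π x) = π x := by
  obtain ⟨hnP, hnz⟩ := mem_centP.1 hn
  obtain ⟨hxQ, hxP⟩ := mem_interQ.1 hx
  rw [D.act_π hnz hxQ]
  rcases P.P_conj_eq D hnP hxP with e | e
  · rw [e]
  · refine absurd ?_ (P.s_not_mem D hwc)
    have := mul_mem (D.sub.conj_mem hnz hxQ) (inv_mem hxQ)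
    rwa [e, mul_inv_cancel_right] at this

/-- It is trivial on the coordinates of the centraliser modulo those of the intersection. -/
theorem act_centQ {n y : G} (hn : n ∈ centP Q z g) (hy : y ∈ centQ Q s) :
    ∃ x ∈ interQ Q g, D.act n (π y) = π y + π x := by
  obtain ⟨hnP, hnz⟩ := mem_centP.1 hn
  obtain ⟨hyQ, hys⟩ := mem_centQ.1 hy
  have hx : y⁻¹ * (n * y * n⁻¹) ∈ interQ Q g := by
    refine mem_interQ.2 ⟨mul_mem (inv_mem hyQ) (D.sub.conj_mem hnz hyQ), ?_⟩
    have h1 := P.P_conj_mem D (n := y⁻¹) (Commute.inv_left hys).eq hnP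
    have h2 := mul_mem h1 (inv_mem hnP)
    rwa [show g⁻¹ * (y⁻¹ * n * y⁻¹⁻¹) * g * (g⁻¹ * n * g)⁻¹ = g⁻¹ * (y⁻¹ * (n * y * n⁻¹)) * g by
      group] at h2
  refine ⟨_, hx, ?_⟩
  rw [D.act_π hnz hyQ, ← D.map_mul y hyQ _ (mem_interQ.1 hx).1, mul_inv_cancel_left]

omit hwc

theorem card_centP : Nat.card (centP Q z g) = Nat.card (centQ Q (g⁻¹ * z * g)) := by
  refine card_eq_of_conj g⁻¹ fun x => ?_
  rw [mem_centP, mem_centQ, inv_inv]
  refine and_congr_right fun _ => ⟨fun h => ?_, fun h => ?_⟩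
  · calc g⁻¹ * x * g * (g⁻¹ * z * g) = g⁻¹ * (x * z) * g := by group
      _ = g⁻¹ * z * g * (g⁻¹ * x * g) := by rw [h]; group
  · calc x * z = g * (g⁻¹ * x * g * (g⁻¹ * z * g)) * g⁻¹ := by group
      _ = z * x := by rw [h]; group

omit D in
theorem card_interQ_partner : Nat.card (interQ Q g⁻¹) = Nat.card (interQ Q g) := by
  refine card_eq_of_conj g fun x => ?_
  rw [mem_interQ, mem_interQ, inv_inv, show g⁻¹ * (g * x * g⁻¹) * g = x by group]
  exact and_comm

theorem card_centQ_conj {c : G} (hc : c * z = z * c) :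
    Nat.card (centQ Q s) = Nat.card (centQ Q (c * s * c⁻¹)) := by
  refine card_eq_of_conj c fun x => ?_
  rw [mem_centQ, mem_centQ]
  refine ⟨fun h => ⟨D.sub.conj_mem hc h.1, ?_⟩, fun h => ⟨?_, ?_⟩⟩
  · calc c * x * c⁻¹ * (c * s * c⁻¹) = c * (x * s) * c⁻¹ := by group
      _ = c * s * c⁻¹ * (c * x * c⁻¹) := by rw [h.2]; group
  · have := D.sub.conj_mem (Commute.inv_left hc).eq h.1
    rwa [show c⁻¹ * (c * x * c⁻¹) * c⁻¹⁻¹ = x by group] at this
  · calc x * s = c⁻¹ * (c * x * c⁻¹ * (c * s * c⁻¹)) * c := by group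
      _ = s * x := by rw [h.2]; group

theorem card_interQ_conj {c : G} (hc : c * z = z * c) :
    Nat.card (interQ Q g) = Nat.card (interQ Q (c * g)) := by
  refine card_eq_of_conj c fun x => ?_
  rw [mem_interQ, mem_interQ, show (c * g)⁻¹ * (c * x * c⁻¹) * (c * g) = g⁻¹ * x * g by group]
  refine and_congr_left fun _ => ⟨D.sub.conj_mem hc, fun h => ?_⟩
  have := D.sub.conj_mem (Commute.inv_left hc).eq h
  rwa [show c⁻¹ * (c * x * c⁻¹) * c⁻¹⁻¹ = x by group] at this

include hwc in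
/-- The map induced by the centraliser in the conjugate has the intersection as kernel. -/
theorem card_image_mul [Finite G] :
    Nat.card ↥(Set.range fun n : centP Q z g => fun v => D.act (n : G) v) * Nat.card (interQ Q g) =
      Nat.card (centP Q z g) := by
  classical
  let F : centP Q z g → V8 → V8 := fun n v => D.act (n : G) v
  choose r hr using fun y : ↥(Set.range F) => y.2
  have hker : ∀ n m : centP Q z g, F n = F m → (n : G)⁻¹ * m ∈ interQ Q g := fun n m e => by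
    have hn := (mem_centP.1 n.2).2
    have hm := (mem_centP.1 m.2).2
    have hni : (n : G)⁻¹ * z = z * (n : G)⁻¹ := (Commute.inv_left hn).eq
    refine mem_interQ.2 ⟨D.mem_of_act (Commute.mul_left hni hm).eq fun v => ?_,
      (mem_centP.1 (mul_mem (inv_mem n.2) m.2)).1⟩
    rw [D.act_mul hni hm, show D.act (m : G) v = D.act (n : G) v from (congrFun e v).symm,
      (D.act_cancel hn v).1]
  have hmem : ∀ x ∈ interQ Q g, ∀ n : centP Q z g, ∀ v, D.act ((n : G) * x) v = D.act (n : G) v :=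
    fun x hx n v => by
      rw [D.act_mul (mem_centP.1 n.2).2 (D.Q_comm (mem_interQ.1 hx).1),
        D.act_of_mem (mem_interQ.1 hx).1]
  rw [← Nat.card_prod]
  refine Nat.card_congr
    { toFun := fun p => ⟨r p.1 * (p.2 : G), mul_mem (r p.1).2 (P.interQ_le_centP D hwc p.2.2)⟩
      invFun := fun n => (⟨F n, n, rfl⟩, ⟨(r ⟨F n, n, rfl⟩ : G)⁻¹ * n, hker _ _ (hr ⟨F n, n, rfl⟩)⟩)
      left_inv := fun p => ?_
      right_inv := fun n => Subtype.ext (mul_inv_cancel_left _ _) }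
  have e : (⟨F ⟨r p.1 * (p.2 : G), mul_mem (r p.1).2 (P.interQ_le_centP D hwc p.2.2)⟩, _, rfl⟩ :
      ↥(Set.range F)) = p.1 :=
    Subtype.ext ((funext fun v => hmem _ p.2.2 (r p.1) v).trans (hr p.1))
  refine Prod.ext e (Subtype.ext ?_)
  simp only [e]
  exact inv_mul_cancel_left _ _

end IsPair

end CfsgLib.CoOneReduce
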