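import Cfsg.Agent.ConwayType.Setup
import Cfsg.Agent.ConwayType.BitsTwo

/-!
# Coordinates for the extraspecial subgroup, without assuming that `z` is not weakly closed
-/

set_option autoImplicit false
set_option linter.style.haveILetI false

namespace CfsgLib.CoOneReduce

open CfsgLib.LargeExtraspecial CfsgLib.ConwayType
open Matrix (mulVec)
open scoped Matrix

/-- What is used about `z`, `Q` and the coordinates `π` on `Q / ⟨z⟩`. -/
structure Data0 {G : Type*} [Group G] (z : G) (Q : Subgroup G) (π : G → V8) : Prop where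
  sub : IsZSub Q z
  card : Nat.card Q = 512
  map_mul : ∀ x ∈ Q, ∀ y ∈ Q, π (x * y) = π x + π y
  ker : ∀ x ∈ Q, π x = 0 ↔ x = 1 ∨ x = z
  surj : ∀ v, ∃ x ∈ Q, π x = v
  sq : ∀ x ∈ Q, x * x = 1 ↔ q8 (π x) = false
  pairs : ∀ p, okPair p = true →
    ∃ c, c * z = z * c ∧ ∀ x ∈ Q, π (c * x * c⁻¹) = pr p (π x)
  faithful : ∀ c, c * z = z * c → (∀ x ∈ Q, π (c * x * c⁻¹) = π x) → c ∈ Q
  card_cent : Nat.card (Subgroup.centralizer ({z} : Set G)) = 2 ^ 21 * 42525

/-- The data exist without an assumption on the conjugates of `z`. -/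
theorem exists_data0 {G : Type*} [Group G] [Finite G] (z : G) (hz : orderOf z = 2)
    (Q : Subgroup (Subgroup.centralizer ({z} : Set G))) [Q.Normal]
    (hF : Cfsg.generalizedFittingSubgroup (Subgroup.centralizer ({z} : Set G)) = Q)
    (hQ : Cfsg.IsExtraspecial 2 Q) (hcard : Nat.card Q = 2 ^ 9)
    (e : (Subgroup.centralizer ({z} : Set G)) ⧸ Q ≃*
      Cfsg.Omega (ZMod 2) (Cfsg.quadFormPlus 4 (ZMod 2))) :
    ∃ π : G → V8, Data0 z (Q.map (Subgroup.centralizer ({z} : Set G)).subtype) π := by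
  classical
  haveI := Fact.mk Nat.prime_two
  set Q' := Q.map (Subgroup.centralizer ({z} : Set G)).subtype with hQ'
  have hQC : Q' ≤ (Subgroup.centralizer ({z} : Set G)) := Subgroup.map_subtype_le _
  have hQ2 : Cfsg.IsExtraspecial 2 ↥Q' := CfsgLib.LargeExtraspecial.isExtraspecial_of_mulEquiv
    (Q.equivMapOfInjective _ (Subgroup.centralizer ({z} : Set G)).subtype_injective) hQ
  have hsub : IsZSub Q' z := isZSub_of_generalizedFitting hz hQC (by rw [hF]) hQ2
  have hcardQ : Nat.card Q' = 512 := by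
    rw [hQ', Subgroup.card_map_of_injective (Subgroup.centralizer ({z} : Set G)).subtype_injective, hcard]; norm_num
  have hcent : ∀ c : (Subgroup.centralizer ({z} : Set G)), (∀ q ∈ Q, q * c = c * q) → c ∈ Q := fun c hc => by
    have hm : c ∈ Subgroup.centralizer
        (Cfsg.generalizedFittingSubgroup (Subgroup.centralizer ({z} : Set G)) : Set (Subgroup.centralizer ({z} : Set G))) := by
      rw [hF, Subgroup.mem_centralizer_iff]; exact hc
    have := CfsgLib.Components.centralizer_generalizedFitting_le_self hm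
    rwa [hF] at this
  -- the order of the centralizer
  set Qm := CfsgLib.StdForms.plusQ 4 (ZMod 2) with hQm
  have hcoe : (⇑Qm : _ → ZMod 2) = Cfsg.quadFormPlus 4 (ZMod 2) := CfsgLib.StdForms.coe_plusQ 4
  have hnd : (QuadraticMap.polarBilin Qm).Nondegenerate := CfsgLib.StdForms.plusQ_nondegenerate 4
  have hexc : Nat.card (ZMod 2) ≠ 2 ∨ Fintype.card (Fin 4 ⊕ Fin 4) ≠ 4 := Or.inr (by simp)
  have hidx : (Cfsg.Omega (ZMod 2) ⇑Qm).index = 2 :=
    CfsgLib.Forms.index_omega_charTwo hnd (by simp) hexc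
  have hO : Nat.card ↥(Cfsg.isometryGroup (ZMod 2) ⇑Qm) = 348364800 := by
    rw [hcoe, CfsgLib.Forms4.card_isometryGroup_quadFormPlus (ZMod.card 2) 4 (by norm_num)]
    simp [Finset.prod_range_succ]
  have hq : Nat.card ((Subgroup.centralizer ({z} : Set G)) ⧸ Q) = 174182400 := by
    rw [Nat.card_congr e.toEquiv]
    exact CfsgLib.OPlusEightTwo.card_omega
  have hC : Nat.card (Subgroup.centralizer ({z} : Set G)) = 2 ^ 21 * 42525 := by
    rw [Subgroup.card_eq_card_quotient_mul_card_subgroup Q, hq, hcard]; norm_num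
  -- the coordinates
  obtain ⟨a, ⟨K⟩⟩ := CfsgLib.ExtraspecialOut.exists_cover (n := 4) hQ hcard
  obtain ⟨K', hK'⟩ : ∃ K' : CfsgLib.ExtraspecialOut.Cover Q (Fin 4 ⊕ Fin 4) ⇑Qm, True := by
    rcases CfsgLib.ExtraspecialOut.zmod_two_cases (Cfsg.quadFormPlus 4 (ZMod 2) a) with h0 | h1
    · exact ⟨K.transport (CfsgLib.QuadTwo.shear a) fun v =>
        (CfsgLib.QuadTwo.plus_shear a h0 v).trans (congrFun hcoe.symm _), trivial⟩
    · exfalso
      obtain ⟨g, hg⟩ := CfsgLib.QuadTwo.exists_minus a h1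
      obtain ⟨ρ, hρ, -⟩ := exists_rep Q hQ hcent (K.transport g hg)
      have hcm := CfsgLib.Forms4.card_isometryGroup_quadFormMinus (ZMod.card 2) 4 (by norm_num)
        (1 : ZMod 2) 1 minus_anisotropic
      simp [Finset.prod_range_succ, -Nat.card_eq_fintype_card] at hcm
      have h1 := ρ.range.card_subgroup_dvd_card
      rw [hcm, ← Subgroup.index_ker, hρ, Subgroup.index_eq_card, hq] at h1
      exact absurd h1 (by decide)
  obtain ⟨ρ, hρ, hact⟩ := exists_rep Q hQ hcent K'
  have hrange : ρ.range.index = 2 := by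
    have h := ρ.range.card_mul_index
    rw [hO, ← Subgroup.index_ker, hρ, Subgroup.index_eq_card, hq] at h
    omega
  have hOm : ρ.range = Cfsg.Omega (ZMod 2) ⇑Qm := by
    haveI := Subgroup.normal_of_index_eq_two hrange
    have hle : Cfsg.Omega (ZMod 2) ⇑Qm ≤ ρ.range := by
      rw [Cfsg.Omega, commutator_def, Subgroup.commutator_le]
      intro x _ y _
      rw [← QuotientGroup.eq_one_iff (N := ρ.range), commutatorElement_def]
      haveI : IsCyclic (↥(Cfsg.isometryGroup (ZMod 2) ⇑Qm) ⧸ ρ.range) :=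
        isCyclic_of_prime_card (p := 2) (by rw [← Subgroup.index_eq_card, hrange])
      simp only [QuotientGroup.mk_mul, QuotientGroup.mk_inv]
      rw [(IsCyclic.commGroup).mul_comm (QuotientGroup.mk x) (QuotientGroup.mk y)]
      group
    refine (Subgroup.eq_of_le_of_card_ge hle ?_).symm
    have h1 := ρ.range.card_mul_index
    have h2 := (Cfsg.Omega (ZMod 2) ⇑Qm).card_mul_index
    rw [hrange] at h1
    rw [hidx] at h2
    omega
  -- the map on `G`
  have hmem : ∀ {x : G}, x ∈ Q' ↔ ∃ hx : x ∈ (Subgroup.centralizer ({z} : Set G)), (⟨x, hx⟩ : (Subgroup.centralizer ({z} : Set G))) ∈ Q := fun {x} =>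
    ⟨fun ⟨q, hq, e⟩ => e ▸ ⟨q.2, hq⟩, fun ⟨hx, hq⟩ => ⟨_, hq, rfl⟩⟩
  let π : G → V8 := fun x =>
    if hx : x ∈ (Subgroup.centralizer ({z} : Set G)) then (if hq : (⟨x, hx⟩ : (Subgroup.centralizer ({z} : Set G))) ∈ Q then enc (K'.π ⟨⟨x, hx⟩, hq⟩) else 0) else 0
  have hπ : ∀ q : Q, π ((q : (Subgroup.centralizer ({z} : Set G))) : G) = enc (K'.π q) := fun q => by
    show dite _ _ _ = _
    rw [dif_pos (q : (Subgroup.centralizer ({z} : Set G))).2, dif_pos q.2]
  have hQel : ∀ x ∈ Q', ∃ q : Q, ((q : (Subgroup.centralizer ({z} : Set G))) : G) = x := fun x hx => by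
    obtain ⟨hx', hq'⟩ := hmem.1 hx; exact ⟨⟨_, hq'⟩, rfl⟩
  have hzero : dec 0 = 0 := funext dec_zero
  have hcen : ∀ q : Q, q ∈ Subgroup.center Q ↔ ((q : (Subgroup.centralizer ({z} : Set G))) : G) = 1 ∨ ((q : (Subgroup.centralizer ({z} : Set G))) : G) = z := by
    intro q
    have hqQ : ((q : (Subgroup.centralizer ({z} : Set G))) : G) ∈ Q' := hmem.2 ⟨(q : (Subgroup.centralizer ({z} : Set G))).2, q.2⟩
    constructor
    · intro hq
      refine hsub.mem_of_commutes fun x hx => ?_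
      obtain ⟨x', rfl⟩ := hQel x hx
      exact congrArg (fun t : Q => ((t : (Subgroup.centralizer ({z} : Set G))) : G)) (Subgroup.mem_center_iff.1 hq x')
    · intro h
      refine Subgroup.mem_center_iff.2 fun x => Subtype.ext (Subtype.ext ?_)
      rcases h with h | h
      · simp [h]
      · simp only [Subgroup.coe_mul, h]
        exact hsub.z_comm (hmem.2 ⟨(x : (Subgroup.centralizer ({z} : Set G))).2, x.2⟩)
  refine ⟨π, hsub, hcardQ, ?_, ?_, ?_, ?_, ?_, ?_, hC⟩
  · intro x hx y hy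
    obtain ⟨x', rfl⟩ := hQel x hx
    obtain ⟨y', rfl⟩ := hQel y hy
    rw [← Subgroup.coe_mul, ← Subgroup.coe_mul, hπ, hπ, hπ, K'.map_mul]
    exact dec_bijective.1 (by rw [dec_add, dec_enc, dec_enc, dec_enc])
  · intro x hx
    obtain ⟨x', rfl⟩ := hQel x hx
    rw [hπ, ← hcen, ← K'.ker]
    exact ⟨fun h => by rw [← dec_enc (K'.π x'), h, hzero],
      fun h => by rw [h, ← hzero, enc_dec]⟩
  · intro v
    obtain ⟨x, hx⟩ := K'.surj (dec v)
    exact ⟨_, hmem.2 ⟨(x : (Subgroup.centralizer ({z} : Set G))).2, x.2⟩, by rw [hπ, hx, enc_dec]⟩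
  · intro x hx
    obtain ⟨x', rfl⟩ := hQel x hx
    have h := K'.quad x'
    rw [show Qm (K'.π x') = if q8 (π ((x' : _) : G)) then 1 else 0 by
      rw [hπ]
      exact ((congrArg _ (dec_enc (K'.π x')).symm).trans (congrFun hcoe _)).trans (q8_dec _)] at h
    rw [← pow_two]
    have e1 : (((x' : (Subgroup.centralizer ({z} : Set G))) : G)) ^ 2 = 1 ↔ x' ^ 2 = 1 :=
      ⟨fun h => Subtype.ext (Subtype.ext h), fun h => congrArg (fun t : Q => ((t : (Subgroup.centralizer ({z} : Set G))) : G)) h⟩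
    rw [e1, ← h]
    cases q8 (π ((x' : (Subgroup.centralizer ({z} : Set G))) : G)) <;> simp
  · intro p hp
    simp only [okPair, Bool.and_eq_true] at hp
    have hr : ∀ u : V8, q8 u = true → Qm (dec u) ≠ 0 := fun u hu => by
      rw [hcoe, q8_dec, if_pos hu]; exact ite_one_ne_zero
    have hmem' : CfsgLib.Spinor.reflIso Qm _ (hr _ hp.1) * CfsgLib.Spinor.reflIso Qm _ (hr _ hp.2) ∈
        ρ.range := by
      rw [hOm, CfsgLib.Forms.omega_eq_ker_charTwo hnd (CfsgLib.Forms.exists_isReflProd_charTwo hnd hexc)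
        hexc, MonoidHom.mem_ker, map_mul, CfsgLib.Forms.parityHom_reflIso,
        CfsgLib.Forms.parityHom_reflIso]
      rfl
    obtain ⟨c, hc⟩ := hmem'
    refine ⟨c, Subgroup.mem_centralizer_singleton_iff.1 c.2, fun x hx => ?_⟩
    obtain ⟨x', rfl⟩ := hQel x hx
    have e1 : (c : G) * ((x' : (Subgroup.centralizer ({z} : Set G))) : G) * (c : G)⁻¹ = ((MulAut.conjNormal c x' : Q) : (Subgroup.centralizer ({z} : Set G))) := by simp
    rw [e1, hπ, hπ, ← hact, hc]
    apply dec_bijective.1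
    rw [dec_enc]
    have hrf : ∀ a v : V8, q8 a = true →
        Cfsg.reflectionMatrix (⇑Qm) (dec a) *ᵥ dec v = dec (rf a v) := fun a v ha => by
      rw [CfsgLib.Spinor.reflectionMatrix_mulVec, CfsgLib.Spinor.refl_apply, QuadraticMap.polar,
        hcoe, ← dec_add, q8_dec, q8_dec, q8_dec, rf, b8, ha, add_comm v a, if_pos rfl]
      cases q8 (a + v) <;> cases q8 v <;> simp [dec_add, add_comm, CharTwo.sub_eq_add]
    show (CfsgLib.Spinor.mat Qm _ * CfsgLib.Spinor.mat Qm _) *ᵥ _ = _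
    rw [← Matrix.mulVec_mulVec, CfsgLib.Spinor.mat_reflIso, CfsgLib.Spinor.mat_reflIso]
    conv_lhs => rw [← dec_enc (K'.π x')]
    rw [hrf _ _ hp.2, hrf _ _ hp.1]
    rfl
  · intro c hc hfix
    obtain ⟨c', rfl⟩ : ∃ c' : (Subgroup.centralizer ({z} : Set G)), (c' : G) = c :=
      ⟨⟨c, Subgroup.mem_centralizer_singleton_iff.2 hc⟩, rfl⟩
    refine hmem.2 ⟨c'.2, ?_⟩
    rw [← hρ, MonoidHom.mem_ker]
    refine CfsgLib.Spinor.mat_ext Qm (Matrix.ext_iff_mulVec.2 fun v => ?_)
    obtain ⟨x, rfl⟩ := K'.surj v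
    rw [hact, CfsgLib.Spinor.mat_one, Matrix.one_mulVec]
    have h := hfix _ (hmem.2 ⟨(x : (Subgroup.centralizer ({z} : Set G))).2, x.2⟩)
    have e1 : (c' : G) * ((x : (Subgroup.centralizer ({z} : Set G))) : G) * (c' : G)⁻¹ = ((MulAut.conjNormal c' x : Q) : (Subgroup.centralizer ({z} : Set G))) := by simp
    rw [e1, hπ, hπ] at h
    rw [← dec_enc (K'.π x), ← h, dec_enc]

namespace Data0

variable {G : Type*} [Group G] {z : G} {Q : Subgroup G} {π : G → V8} (D : Data0 z Q π)
include D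

theorem π_one : π 1 = 0 := (D.ker 1 (one_mem Q)).2 (Or.inl rfl)

theorem π_z : π z = 0 := (D.ker z D.sub.z_mem).2 (Or.inr rfl)

theorem π_inv {x : G} (hx : x ∈ Q) : π x⁻¹ = π x := by
  refine (eq_of_add_eq_zero8 ?_).symm
  rw [← D.map_mul x hx _ (inv_mem hx), mul_inv_cancel, D.π_one]

theorem π_z_mul {x : G} (hx : x ∈ Q) : π (z * x) = π x := by
  rw [D.map_mul z D.sub.z_mem x hx, D.π_z, zero_add]

theorem eq_or_eq_of_π_eq {x y : G} (hx : x ∈ Q) (hy : y ∈ Q) (h : π x = π y) :
    y = x ∨ y = z * x := by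
  have h0 : π (y * x⁻¹) = 0 := by rw [D.map_mul y hy _ (inv_mem hx), D.π_inv hx, h, add_self8]
  rcases (D.ker _ (mul_mem hy (inv_mem hx))).1 h0 with e | e
  · exact Or.inl (mul_inv_eq_one.1 e)
  · exact Or.inr (mul_inv_eq_iff_eq_mul.1 e)

theorem commute_iff {x y : G} (hx : x ∈ Q) (hy : y ∈ Q) : x * y = y * x ↔ b8 (π x) (π y) = false := by
  have h1 := D.sq x hx
  have h2 := D.sq y hy
  have h3 := D.sq _ (mul_mem hx hy)
  rw [D.map_mul x hx y hy, q8_add] at h3
  have hzz := D.sub.mul_self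
  have hz1 := D.sub.ne_one
  have hxz : Commute x z := D.sub.z_comm hx
  have hyz : Commute y z := D.sub.z_comm hy
  rcases D.sub.conj_eq hy hx with e | e <;> rw [mul_inv_eq_iff_eq_mul] at e
  · have e2 : x * y * (x * y) = (x * x) * (y * y) := by
      calc x * y * (x * y) = x * (y * x) * y := by group
        _ = x * (x * y) * y := by rw [e]
        _ = (x * x) * (y * y) := by group
    rw [e2] at h3
    refine iff_of_true e.symm ?_
    rcases D.sub.sq_eq hx with a | a <;> rcases D.sub.sq_eq hy with b | b <;>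
      rw [a, b] at h3 <;> rw [a] at h1 <;> rw [b] at h2 <;>
      cases hq : q8 (π x) <;> cases hr : q8 (π y) <;> cases hb : b8 (π x) (π y) <;>
      simp_all
  · have e2 : x * y * (x * y) = z * ((x * x) * (y * y)) := by
      calc x * y * (x * y) = x * (y * x) * y := by group
        _ = x * (z * x * y) * y := by rw [e]
        _ = (x * z) * x * (y * y) := by group
        _ = z * ((x * x) * (y * y)) := by rw [hxz.eq]; group
    rw [e2] at h3
    refine iff_of_false (fun hc => hz1 ?_) ?_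
    · rw [← hc, mul_assoc] at e
      exact mul_eq_right.1 e.symm
    · rcases D.sub.sq_eq hx with a | a <;> rcases D.sub.sq_eq hy with b | b <;>
        rw [a, b] at h3 <;> rw [a] at h1 <;> rw [b] at h2 <;>
        cases hq : q8 (π x) <;> cases hr : q8 (π y) <;> cases hb : b8 (π x) (π y) <;>
        simp_all

/-- A representative in `Q` of a coordinate vector. -/
noncomputable def sec (v : V8) : G := (D.surj v).choose

theorem sec_mem (v : V8) : D.sec v ∈ Q := (D.surj v).choose_spec.1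

theorem π_sec (v : V8) : π (D.sec v) = v := (D.surj v).choose_spec.2

/-- The map on coordinates induced by conjugation. -/
noncomputable def act (c : G) (v : V8) : V8 := π (c * D.sec v * c⁻¹)

theorem act_π {c x : G} (hc : c * z = z * c) (hx : x ∈ Q) : D.act c (π x) = π (c * x * c⁻¹) := by
  rcases D.eq_or_eq_of_π_eq hx (D.sec_mem _) (D.π_sec (π x)).symm with e | e
  · rw [act, e]
  · rw [act, e, show c * (z * x) * c⁻¹ = (c * z) * c⁻¹ * (c * x * c⁻¹) from by group, hc,
      mul_inv_cancel_right, D.π_z_mul (D.sub.conj_mem hc hx)]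

theorem act_mul {c d : G} (hc : c * z = z * c) (hd : d * z = z * d) (v : V8) :
    D.act (c * d) v = D.act c (D.act d v) := by
  rw [show D.act d v = π (d * D.sec v * d⁻¹) from rfl, D.act_π hc (D.sub.conj_mem hd (D.sec_mem v)),
    act]
  congr 1
  group

theorem act_one (v : V8) : D.act 1 v = v := by rw [act]; simp [D.π_sec]

theorem act_iso {c : G} (hc : c * z = z * c) : IsIso8 (D.act c) := by
  refine ⟨fun u v => ?_, fun v => ?_⟩
  · obtain ⟨x, hx, rfl⟩ := D.surj u
    obtain ⟨y, hy, rfl⟩ := D.surj v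
    rw [← D.map_mul x hx y hy, D.act_π hc (mul_mem hx hy), D.act_π hc hx, D.act_π hc hy,
      ← D.map_mul _ (D.sub.conj_mem hc hx) _ (D.sub.conj_mem hc hy)]
    congr 1
    group
  · obtain ⟨x, hx, rfl⟩ := D.surj v
    rw [D.act_π hc hx]
    have h : (c * x * c⁻¹) * (c * x * c⁻¹) = 1 ↔ x * x = 1 := by
      rw [show (c * x * c⁻¹) * (c * x * c⁻¹) = c * (x * x) * c⁻¹ from by group, conj_eq_one_iff]
    rw [D.sq _ (D.sub.conj_mem hc hx), D.sq x hx] at h
    cases h1 : q8 (π (c * x * c⁻¹)) <;> cases h2 : q8 (π x) <;> simp_all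

theorem act_of_mem {c : G} (hc : c ∈ Q) (v : V8) : D.act c v = v := by
  rcases D.sub.conj_eq hc (D.sec_mem v) with e | e <;>
    simp [act, e, D.π_sec, D.π_z_mul (D.sec_mem v)]

theorem mem_of_act {c : G} (hc : c * z = z * c) (h : ∀ v, D.act c v = v) : c ∈ Q :=
  D.faithful c hc fun x hx => by rw [← D.act_π hc hx, h]

theorem exists_pr {p : ℕ × ℕ} (hp : okPair p = true) :
    ∃ c, c * z = z * c ∧ ∀ v, D.act c v = pr p v := by
  obtain ⟨c, hc, h⟩ := D.pairs p hp
  exact ⟨c, hc, fun v => by rw [act, h _ (D.sec_mem v), D.π_sec]⟩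

/-- Conjugation as a homomorphism to permutations of the coordinates. -/
noncomputable def actHom : Subgroup.centralizer ({z} : Set G) →* Equiv.Perm V8 where
  toFun c := ⟨D.act c, D.act (c : G)⁻¹,
    fun v => by
      have h := Subgroup.mem_centralizer_singleton_iff.1 c.2
      rw [← D.act_mul (Commute.inv_left h).eq h, inv_mul_cancel, D.act_one],
    fun v => by
      have h := Subgroup.mem_centralizer_singleton_iff.1 c.2
      rw [← D.act_mul h (Commute.inv_left h).eq, mul_inv_cancel, D.act_one]⟩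
  map_one' := Equiv.ext D.act_one
  map_mul' c d := Equiv.ext (D.act_mul (Subgroup.mem_centralizer_singleton_iff.1 c.2)
    (Subgroup.mem_centralizer_singleton_iff.1 d.2))

@[simp] theorem actHom_apply (c : Subgroup.centralizer ({z} : Set G)) (v : V8) :
    D.actHom c v = D.act (c : G) v := rfl

theorem mem_of_π_zero {x : G} (hx : x ∈ Q) (h : π x = 0) : x = 1 ∨ x = z := (D.ker x hx).1 h

theorem Q_comm {c : G} (hc : c ∈ Q) : c * z = z * c := D.sub.z_comm hc


theorem act_cancel {c : G} (hc : c * z = z * c) (v : V8) :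
    D.act c⁻¹ (D.act c v) = v ∧ D.act c (D.act c⁻¹ v) = v := by
  constructor <;> rw [← D.act_mul] <;>
    first
      | exact hc
      | exact (Commute.inv_left hc).eq
      | simp [D.act_one]

theorem act_conj {c x : G} (hc : c * z = z * c) (hx : x * z = z * x) (v : V8) :
    D.act (c * x * c⁻¹) v = D.act c (D.act x (D.act c⁻¹ v)) := by
  rw [D.act_mul (Commute.mul_left hc hx).eq (Commute.inv_left hc).eq, D.act_mul hc hx]

/-- Lifts of words in pairs of reflections. -/
theorem exists_pw : ∀ w : List (ℕ × ℕ), (∀ p ∈ w, okPair p = true) →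
    ∃ c, c * z = z * c ∧ ∀ v, D.act c v = pw w v
  | [], _ => ⟨1, by simp, D.act_one⟩
  | p :: w, h => by
    obtain ⟨c, hc, hcv⟩ := exists_pw w fun q hq => h q (List.mem_cons_of_mem p hq)
    obtain ⟨d, hd, hdv⟩ := D.exists_pr (h p List.mem_cons_self)
    exact ⟨d * c, (Commute.mul_left hd hc).eq,
      fun v => by rw [D.act_mul hd hc, hdv, hcv]; rfl⟩

end Data0

end CfsgLib.CoOneReduce
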