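import Cfsg.Agent.CoOneReduce.Inter
import Cfsg.Agent.CoOneReduce.FactsStab
import Cfsg.Agent.CoOneReduce.FactsPairA
import Cfsg.Agent.CoOneReduce.FactsPairB
import Cfsg.Agent.CoOneReduce.FactsClosure

/-!
# No second conjugate moves few vectors
-/

set_option autoImplicit false
set_option linter.unusedSectionVars false

namespace CfsgLib.CoOneReduce

open CfsgLib.LargeExtraspecial CfsgLib.ConwayType

variable {G : Type*} [Group G] [Finite G] {z : G} {Q : Subgroup G} {π : G → V8}

theorem closure_lengths : ((compN baseElt idN == baseElt) &&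
    (commPaths.all fun e => compN e.2.1 idN == e.2.1 && e.2.1.length == 8) &&
    (closureOps.all fun e => e.1.length == 8)) = true := by
  decide +kernel

namespace Normal

variable {s g : G} {i j : ℕ} {D : Data0 z Q π} (N : Normal D s g i j) (hwc : WClosed z Q)
include N hwc

theorem small_trivial (hi : i < 2) (h1 : Nat.card (interQ Q g) = 1) : False := by
  classical
  set S := D.code '' (centP Q z g : Set G) with hS
  have hcard : Nat.card ↥S = Nat.card (centQ Q (g⁻¹ * z * g)) := by
    rw [← N.pair.card_centP D, ← N.pair.card_codes D hwc, h1, mul_one]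
  have hsub : S ⊆ ↑(repStab i j []).toFinset := by
    rintro _ ⟨n, hn, rfl⟩
    rw [Finset.mem_coe, List.mem_toFinset]
    refine N.mem_repStab hwc (fun d hd => absurd hd List.not_mem_nil) (fun x hx => ?_) hn
    have : x = 1 := by
      have := Subgroup.card_eq_one.1 h1
      rw [this, Subgroup.mem_bot] at hx
      exact hx
    exact Or.inl (this ▸ D.π_one)
  have hf := List.all_eq_true.1 (List.all_eq_true.1 stab_trivial i (List.mem_range.2 hi)) j
    (List.mem_range.2 N.hj)
  simp only [Bool.and_eq_true, decide_eq_true_eq] at hf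
  have hle : Nat.card ↥S ≤ 16 := by
    rw [Nat.card_coe_set_eq]
    refine (Set.ncard_le_ncard hsub (Finset.finite_toSet _)).trans ?_
    rw [Set.ncard_coe_finset]
    exact (List.toFinset_card_le _).trans hf.1
  have h16 : Nat.card (centQ Q (g⁻¹ * z * g)) = 16 := by
    rcases (N.pair.partner).kind D hwc with h | h | h <;> omega
  have hsub' : S ⊆ ↑((repStab i j []).filter fun C => [1, 4, 16].contains (wN C)).toFinset := by
    intro C hC
    have h := hsub hC
    rw [Finset.mem_coe, List.mem_toFinset] at h ⊢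
    obtain ⟨n, hn, rfl⟩ := hC
    refine List.mem_filter.2 ⟨h, ?_⟩
    rcases N.pair.wN_of_partner D hwc h16 hn with e | e | ⟨p, hp, e⟩ <;> rw [e]
    · decide +kernel
    · rw [N.wN_code, if_pos hi]; decide
    · rcases hp.wN_mem D hwc with ⟨e', -⟩ | e' <;> rw [e'] <;> decide
  have := (Set.ncard_le_ncard hsub' (Finset.finite_toSet _))
  rw [Set.ncard_coe_finset, ← Nat.card_coe_set_eq, hcard, h16] at this
  have := this.trans ((List.toFinset_card_le _).trans hf.2)
  omega

theorem small_pair (hi : i < 2) (h1 : Nat.card (interQ Q g) ≠ 1)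
    (hz : phiZ (repKb i) (repX i j) = false) : False := by
  obtain ⟨x, hx, hx1⟩ : ∃ x ∈ interQ Q g, x ≠ 1 := by
    by_contra! h
    exact h1 (Subgroup.card_eq_one.2 ((Subgroup.eq_bot_iff_forall _).2 h))
  have hd := N.mem_candL hwc hx (N.pair.interQ_ne_zero D hwc hx hx1)
  have hs := List.all_eq_true.1 rep_small i (List.mem_range.2 hi)
  simp only [Bool.and_eq_true, List.all_eq_true, List.mem_range] at hs
  have hs' := (hs.2 j N.hj).2
  rw [hz, if_neg (by decide)] at hs'
  simp only [List.all_eq_true, Bool.not_eq_true'] at hs'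
  have hB : ∀ y ∈ interQ Q g, π y = 0 ∨ (π y).bits ∈ [(π x).bits] := by
    intro y hy
    by_cases hy1 : y = 1
    · exact Or.inl (hy1 ▸ D.π_one)
    refine Or.inr (List.mem_singleton.2 (congrArg V8.bits ?_))
    by_contra hne
    have hd' := N.mem_candL hwc hy (N.pair.interQ_ne_zero D hwc hy hy1)
    have hsum := N.mem_candL hwc (mul_mem hx hy) (by
      rw [D.map_mul x (mem_interQ.1 hx).1 y (mem_interQ.1 hy).1]
      exact fun e => hne (eq_of_add_eq_zero8 e).symm)
    rw [D.map_mul x (mem_interQ.1 hx).1 y (mem_interQ.1 hy).1, bits_add] at hsum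
    have := hs' _ hd _ hd'
    rw [← Bool.not_eq_true, List.contains_iff_mem] at this
    exact this hsum
  have hA : ∀ d ∈ [(π x).bits], d = 0 ∨ ∃ y ∈ interQ Q g, (π y).bits = d := fun d hd =>
    Or.inr ⟨x, hx, (List.mem_singleton.1 hd).symm⟩
  have hnp : noPair (repF i) (repStab i j [(π x).bits]) = true := by
    rcases Nat.lt_or_ge j 8 with hj | hj
    · have h := List.all_eq_true.1 (List.all_eq_true.1 stab_pairA i (List.mem_range.2 hi)) j
        (List.mem_range.2 N.hj)
      simp only [Bool.or_eq_true, decide_eq_true_eq, List.all_eq_true, forceC_eq] at h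
      rcases h with (h | h) | h
      · omega
      · rw [hz] at h; exact absurd h (by decide)
      · exact h _ hd
    · have h := List.all_eq_true.1 (List.all_eq_true.1 stab_pairB i (List.mem_range.2 hi)) j
        (List.mem_range.2 N.hj)
      simp only [Bool.or_eq_true, decide_eq_true_eq, List.all_eq_true, forceC_eq] at h
      rcases h with (h | h) | h
      · omega
      · rw [hz] at h; exact absurd h (by decide)
      · exact h _ hd
  obtain ⟨t, ht⟩ : ∃ t, t = g⁻¹ * z * g := ⟨_, rfl⟩
  have P' : IsPair z t g⁻¹ := ht ▸ N.pair.partner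
  have h64 : 64 ≤ Nat.card (centQ Q t) := by
    by_contra! h
    exact h1 (by rw [← N.pair.card_interQ_partner, P'.interQ_trivial D hwc h])
  obtain ⟨a, ha, b, hb, hab⟩ := P'.exists_nonab D hwc h64
  have mem : ∀ a ∈ centQ Q t, g * a * g⁻¹ ∈ centP Q z g := fun a ha => by
    obtain ⟨haQ, hat⟩ := mem_centQ.1 ha
    refine mem_centP.2 ⟨by rwa [show g⁻¹ * (g * a * g⁻¹) * g = a by group], ?_⟩
    rw [ht] at hat
    calc g * a * g⁻¹ * z = g * (a * (g⁻¹ * z * g)) * g⁻¹ := by group
      _ = z * (g * a * g⁻¹) := by rw [hat]; group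
  have hn := mem a ha
  have hm := mem b hb
  set n := g * a * g⁻¹ with hndef
  set m := g * b * g⁻¹ with hmdef
  have hrel : n * m = m * n * s := by
    have haQ := (mem_centQ.1 ha).1
    have hbQ := (mem_centQ.1 hb).1
    rcases D.sub.conj_eq haQ hbQ with e | e
    · exact absurd (mul_inv_eq_iff_eq_mul.1 e) hab
    · rw [mul_inv_eq_iff_eq_mul] at e
      have hzb : Commute (b * a) z := (Commute.mul_left (D.Q_comm hbQ) (D.Q_comm haQ))
      calc n * m = g * (a * b) * g⁻¹ := by rw [hndef, hmdef]; group
        _ = g * (b * a * z) * g⁻¹ := by rw [e, hzb.eq]; group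
        _ = m * n * (g * z * g⁻¹) := by rw [hndef, hmdef]; group
        _ = m * n * s := by rw [N.pair.eq]
  obtain ⟨-, hnz⟩ := mem_centP.1 hn
  obtain ⟨-, hmz⟩ := mem_centP.1 hm
  have hcode : compN (D.code n) (D.code m) = compN (compN (D.code m) (D.code n)) (repF i) := by
    rw [← N.code, ← D.code_mul hnz hmz, hrel, D.code_mul (Commute.mul_left hmz hnz).eq N.pair.comm,
      D.code_mul hmz hnz]
  simp only [noPair, List.all_eq_true, bne_iff_ne] at hnp
  exact hnp _ (N.mem_repStab hwc hA hB hn) _ (N.mem_repStab hwc hA hB hm) hcode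

theorem small_fixed (hi : i < 2) (h1 : Nat.card (interQ Q g) ≠ 1)
    (hz : phiZ (repKb i) (repX i j) = true) : False := by
  classical
  obtain ⟨rfl, rfl⟩ : i = 0 ∧ j = 0 := by
    have h := List.all_eq_true.1 (List.all_eq_true.1 rep_extra.2.1 i (List.mem_range.2 hi)) j
      (List.mem_range.2 N.hj)
    simp only [hz, Bool.not_true, Bool.false_or, Bool.and_eq_true, beq_iff_eq] at h
    exact h.1
  obtain ⟨x, hx, hx1⟩ : ∃ x ∈ interQ Q g, x ≠ 1 := by
    by_contra! h
    exact h1 (Subgroup.card_eq_one.2 ((Subgroup.eq_bot_iff_forall _).2 h))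
  have hW : ∀ y ∈ interQ Q g, (π y).bits ∈ imList (repF 0) := by
    intro y hy
    by_cases hy1 : y = 1
    · rw [hy1, D.π_one, N.mem_imList]
      exact ⟨0, by rw [(D.act_iso N.pair.comm).zero, add_zero]⟩
    have hd := N.mem_candL hwc hy (N.pair.interQ_ne_zero D hwc hy hy1)
    have hs := List.all_eq_true.1 rep_small 0 (List.mem_range.2 hi)
    simp only [Bool.and_eq_true, List.all_eq_true, List.mem_range] at hs
    have hs' := (hs.2 0 N.hj).2
    rw [hz, if_pos rfl] at hs'
    simp only [List.all_eq_true, List.contains_iff_mem] at hs'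
    exact hs' _ hd
  have hd0 := N.pair.interQ_ne_zero D hwc hx hx1
  have hzs : ¬ ∃ k, k * z * k⁻¹ = z * s := by
    rintro hzs
    obtain ⟨u, hu⟩ := N.mem_imList.1 (hW x hx)
    have e : D.act s u + u = π x := V8.ext_bits hu
    exact hd0 (e.symm.trans (N.pair.interV_comm_eq_zero hwc D hzs
      (by rw [e]; exact mem_interV.2 ⟨x, hx, rfl⟩)))
  have hw0 := rep_words
  simp only [Bool.and_eq_true, List.all_eq_true, Bool.or_eq_true, List.any_eq_true, beq_iff_eq,
    bne_iff_ne] at hw0
  obtain ⟨hwords, hmoves⟩ := hw0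
  have hlift : ∀ w ∈ rootWords, ∃ c', c' * z = z * c' ∧ c' * s = s * c' ∧ D.code c' = wordC w := by
    intro w hw
    obtain ⟨hok, hwf⟩ := hwords w hw
    obtain ⟨c, hc, hcv⟩ := D.exists_pw w (wordOK_pairs hok)
    obtain ⟨c', h1, h2, h3⟩ := N.exists_centralizing hz hzs hc (by
      rw [show D.code c = wordC w from onN_pw hcv, N.code, hwf])
    exact ⟨c', h1, h2, onN_pw fun v => (h3 v).trans (hcv v)⟩
  -- the intersection has order four
  obtain ⟨x', hx', hne0, hne1⟩ : ∃ x' ∈ interQ Q g, π x' ≠ 0 ∧ π x' ≠ π x := by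
    rcases hmoves _ (hW x hx) with h | ⟨w, hw, hmove⟩
    · exact absurd (V8.ext_bits h) hd0
    obtain ⟨c', hcz, hcs, hcode⟩ := hlift w hw
    have hmem : c' * x * c'⁻¹ ∈ interQ Q g := mem_interQ.2
      ⟨D.sub.conj_mem hcz (mem_interQ.1 hx).1, N.pair.P_conj_mem D hcs (mem_interQ.1 hx).2⟩
    refine ⟨_, hmem, N.pair.interQ_ne_zero D hwc hmem fun e => hx1 (conj_eq_one_iff.1 e), fun e => ?_⟩
    refine hmove ?_
    rw [← hcode, D.apN_code hcz, D.act_π hcz (mem_interQ.1 hx).1, e]
  have hall : ∀ d ∈ imList (repF 0), d = 0 ∨ ∃ y ∈ interQ Q g, (π y).bits = d := by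
    intro d hd
    obtain ⟨-, -, hlen, hnd, -⟩ := rep_extra
    have hxx := D.map_mul x (mem_interQ.1 hx).1 x' (mem_interQ.1 hx').1
    set T : Finset ℕ := {0, (π x).bits, (π x').bits, (π (x * x')).bits} with hT
    have hsub : T ⊆ (imList (repF 0)).toFinset := by
      intro a ha
      rw [List.mem_toFinset]
      simp only [hT, Finset.mem_insert, Finset.mem_singleton] at ha
      rcases ha with rfl | rfl | rfl | rfl
      · have := hW 1 (one_mem _); rwa [D.π_one] at this
      · exact hW x hx
      · exact hW x' hx'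
      · exact hW _ (mul_mem hx hx')
    have h0 : ∀ v : V8, v ≠ 0 → (0 : ℕ) ≠ v.bits := fun v h e => h (V8.ext_bits e.symm)
    have hb : ∀ a b : V8, a ≠ b → a.bits ≠ b.bits := fun a b h e => h (V8.ext_bits e)
    have hT4 : T.card = 4 := by
      rw [hT, hxx]
      have a1 := h0 _ hd0
      have a2 := h0 _ hne0
      have a3 := h0 (π x + π x') fun e => hne1 (eq_of_add_eq_zero8 e).symm
      have a4 := hb _ _ hne1.symm
      have a5 := hb (π x) (π x + π x') fun e => hne0 (add_eq_left.1 e.symm)
      have a6 := hb (π x') (π x + π x') fun e => hd0 (add_eq_right.1 e.symm)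
      simp [a1, a2, a3, a4, a5, a6]
    have heq := Finset.eq_of_subset_of_card_le hsub (by
      rw [hT4, List.toFinset_card_of_nodup hnd, hlen])
    have : d ∈ T := by rw [heq, List.mem_toFinset]; exact hd
    simp only [hT, Finset.mem_insert, Finset.mem_singleton] at this
    rcases this with h | h | h | h
    · exact Or.inl h
    · exact Or.inr ⟨x, hx, h.symm⟩
    · exact Or.inr ⟨x', hx', h.symm⟩
    · exact Or.inr ⟨x * x', mul_mem hx hx', h.symm⟩
  have hI4 : Nat.card (interQ Q g) ≤ 4 := by
    rw [← N.pair.card_interV D hwc,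
      ← Finset.card_image_of_injective _ (fun a b => V8.ext_bits (u := a) (v := b))]
    refine (Finset.card_le_card (t := (imList (repF 0)).toFinset) ?_).trans
      ((List.toFinset_card_le _).trans rep_extra.2.2.1.le)
    intro a ha
    obtain ⟨v, hv, rfl⟩ := Finset.mem_image.1 ha
    obtain ⟨y, hy, rfl⟩ := mem_interV.1 hv
    exact List.mem_toFinset.2 (hW y hy)
  obtain ⟨t, ht⟩ : ∃ t, t = g⁻¹ * z * g := ⟨_, rfl⟩
  have P' : IsPair z t g⁻¹ := ht ▸ N.pair.partner
  have h64 : 64 ≤ Nat.card (centQ Q t) ∧ Nat.card (centQ Q t) ≤ 128 := by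
    rcases P'.kind D hwc with h | h | h
    · exact h
    all_goals exact absurd (P'.interQ_trivial D hwc (by omega)) (by rwa [N.pair.card_interQ_partner])
  set S := D.code '' (centP Q z g : Set G) with hS
  have hcard := N.pair.card_codes D hwc
  rw [N.pair.card_centP D, ← ht, ← hS] at hcard
  have hmem : ∀ n ∈ centP Q z g, D.code n ∈ repStab 0 0 (imList (repF 0)) := fun n hn =>
    N.mem_repStab hwc hall (fun y hy => Or.inr (hW y hy)) hn
  -- some element leads to the base element
  have hconj : ∀ w ∈ rootWords, ∀ n ∈ centP Q z g, ∃ c' m, c' * z = z * c' ∧ D.code c' = wordC w ∧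
      m ∈ centP Q z g ∧ m * c' = c' * n := by
    intro w hw n hn
    obtain ⟨c', hcz, hcs, hcode⟩ := hlift w hw
    obtain ⟨hnP, hnz⟩ := mem_centP.1 hn
    exact ⟨c', c' * n * c'⁻¹, hcz, hcode, mem_centP.2 ⟨N.pair.P_conj_mem D hcs hnP,
      ((Commute.mul_left hcz hnz).mul_left (Commute.inv_left hcz)).eq⟩, inv_mul_cancel_right _ _⟩
  have hlens := closure_lengths
  simp only [Bool.and_eq_true, List.all_eq_true, beq_iff_eq] at hlens
  obtain ⟨⟨hbase, hplen⟩, holen⟩ := hlens
  have hpaths : ∀ (l : List (List ℕ × List ℕ × ℕ)) (seen : List (List ℕ)),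
      (∀ e ∈ l, e ∈ commPaths) → pathsOK seen l = true → (∀ b ∈ seen, b ∈ S → baseElt ∈ S) →
      ∀ e ∈ l, e.1 ∈ S → baseElt ∈ S := by
    intro l
    induction l with
    | nil => intro seen _ _ _ e he; exact absurd he List.not_mem_nil
    | cons e l ih =>
      obtain ⟨a, b, k⟩ := e
      intro seen hl hok hseen e he
      simp only [pathsOK, Bool.and_eq_true, decide_eq_true_eq, List.contains_iff_mem,
        beq_iff_eq] at hok
      obtain ⟨⟨⟨hb, hk⟩, heq⟩, hrest⟩ := hok
      have step : a ∈ S → baseElt ∈ S := by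
        rintro ⟨n, hn, rfl⟩
        obtain ⟨c', m, hcz, hcode, hm, hmc⟩ := hconj (rootWords.getD k []) (by
          rw [List.getD_eq_getElem _ _ hk]; exact List.getElem_mem hk) n hn
        refine hseen b hb ⟨m * n⁻¹, mul_mem hm (inv_mem hn), ?_⟩
        obtain ⟨-, hnz⟩ := mem_centP.1 hn
        obtain ⟨-, hmz⟩ := mem_centP.1 hm
        have hd : (m * n⁻¹) * z = z * (m * n⁻¹) := (Commute.mul_left hmz (Commute.inv_left hnz)).eq
        refine D.code_cancel (Commute.mul_left hnz hcz).eq (length_enc _)
          (hplen _ (hl _ List.mem_cons_self)).2 ?_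
        rw [← D.code_mul hd (Commute.mul_left hnz hcz).eq,
          show m * n⁻¹ * (n * c') = c' * n by rw [← hmc]; group, D.code_mul hcz hnz, hcode,
          D.code_mul hnz hcz, hcode, heq]
      rcases List.mem_cons.1 he with rfl | he
      · exact step
      · exact ih (a :: seen) (fun e he => hl e (List.mem_cons_of_mem _ he)) hrest
          (List.forall_mem_cons.2 ⟨step, hseen⟩) e he
  have hbaseS : baseElt ∈ S := by
    have hF : repF 0 ∈ S := ⟨s, N.pair.s_mem_centP D, N.code⟩
    obtain ⟨C, hC, hC1, hC2⟩ : ∃ C ∈ S, C ≠ idN ∧ C ≠ repF 0 := by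
      by_contra! h
      have hle : Nat.card ↥S ≤ 2 := by
        rw [Nat.card_coe_set_eq]
        refine (Set.ncard_le_ncard (t := {idN, repF 0}) (fun C hC => ?_) (by simp)).trans ?_
        · by_cases e : C = idN
          · exact Or.inl e
          · exact Or.inr (h C hC e)
        · exact (Set.ncard_insert_le _ _).trans (by simp)
      have := Nat.mul_le_mul hle hI4
      omega
    obtain ⟨n, hn, rfl⟩ := hC
    have hc := List.all_eq_true.1 stab_cover _ (hmem n hn)
    simp only [Bool.or_eq_true, beq_iff_eq, List.any_eq_true] at hc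
    rcases hc with ((h | h) | h) | ⟨e, he, hee⟩
    · exact absurd h hC1
    · exact absurd h hC2
    · exact h ▸ ⟨n, hn, rfl⟩
    · exact hpaths commPaths [baseElt] (fun e he => he) paths_facts
        (by intro b hb hbS; rwa [List.mem_singleton.1 hb] at hbS) e he (hee ▸ ⟨n, hn, rfl⟩)
  have hops : ∀ (l : List (List ℕ × ℕ × ℕ × ℕ)) (seen : List (List ℕ)),
      (∀ e ∈ l, e ∈ closureOps) → opsOK seen l = true → (∀ b ∈ seen, b ∈ S) →
      ∀ e ∈ l, e.1 ∈ S := by
    intro l
    induction l with
    | nil => intro seen _ _ _ e he; exact absurd he List.not_mem_nil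
    | cons e l ih =>
      obtain ⟨C, k, a, b⟩ := e
      intro seen hl hok hseen
      simp only [opsOK, Bool.and_eq_true] at hok
      obtain ⟨hstep, hrest⟩ := hok
      have hget : ∀ r, r < seen.length → seen.getD r [] ∈ S := fun r hr => by
        rw [List.getD_eq_getElem _ _ hr]; exact hseen _ (List.getElem_mem hr)
      have hCS : C ∈ S := by
        split at hstep
        · simp only [Bool.and_eq_true, decide_eq_true_eq, beq_iff_eq] at hstep
          obtain ⟨⟨ha, hb⟩, heq⟩ := hstep
          obtain ⟨n, hn, hnc⟩ := hget a ha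
          obtain ⟨m, hm, hmc⟩ := hget b hb
          exact ⟨n * m, mul_mem hn hm, by
            rw [D.code_mul (mem_centP.1 hn).2 (mem_centP.1 hm).2, hnc, hmc, heq]⟩
        · simp only [Bool.and_eq_true, decide_eq_true_eq, beq_iff_eq] at hstep
          obtain ⟨⟨ha, hb⟩, heq⟩ := hstep
          obtain ⟨n, hn, hnc⟩ := hget b hb
          obtain ⟨c', m, hcz, hcode, hm, hmc⟩ := hconj (rootWords.getD a []) (by
            rw [List.getD_eq_getElem _ _ ha]; exact List.getElem_mem ha) n hn
          refine ⟨m, hm, D.code_cancel hcz (length_enc _) (holen _ (hl _ List.mem_cons_self)) ?_⟩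
          rw [← D.code_mul (mem_centP.1 hm).2 hcz, hmc, D.code_mul hcz (mem_centP.1 hn).2, hcode,
            hnc]
          exact heq.symm
      intro e he
      rcases List.mem_cons.1 he with rfl | he
      · exact hCS
      · exact ih (seen ++ [C]) (fun e he => hl e (List.mem_cons_of_mem _ he)) hrest
          (by
            intro b hb
            rcases List.mem_append.1 hb with h | h
            · exact hseen b h
            · exact List.mem_singleton.1 h ▸ hCS) e he
  have hof := ops_facts
  simp only [Bool.and_eq_true, decide_eq_true_eq] at hof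
  obtain ⟨⟨hok, hnd⟩, hlen⟩ := hof
  have hbig : (baseElt :: closureOps.map Prod.fst).toFinset.card ≤ Nat.card ↥S := by
    rw [Nat.card_coe_set_eq, ← Set.ncard_coe_finset]
    refine Set.ncard_le_ncard (fun C hC => ?_) (Set.toFinite _)
    simp only [List.toFinset_cons, Finset.coe_insert, Set.mem_insert_iff, Finset.mem_coe,
      List.mem_toFinset, List.mem_map] at hC
    rcases hC with rfl | ⟨e, he, rfl⟩
    · exact hbaseS
    · exact hops closureOps [baseElt] (fun e he => he) hok
        (by intro b hb; exact List.mem_singleton.1 hb ▸ hbaseS) e he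
  rw [List.toFinset_card_of_nodup hnd, List.length_cons, List.length_map] at hbig
  have hI : 4 ≤ Nat.card (interQ Q g) := by
    rw [← N.pair.card_interV D hwc,
      ← Finset.card_image_of_injective _ (fun a b => V8.ext_bits (u := a) (v := b))]
    refine le_trans ?_ (Finset.card_le_card (s := (imList (repF 0)).toFinset) fun d hd => ?_)
    · rw [List.toFinset_card_of_nodup rep_extra.2.2.2.1, rep_extra.2.2.1]
    · rcases hall d (List.mem_toFinset.1 hd) with rfl | ⟨y, hy, rfl⟩
      · exact Finset.mem_image.2 ⟨π 1, mem_interV.2 ⟨1, one_mem _, rfl⟩, by rw [D.π_one]; rfl⟩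
      · exact Finset.mem_image.2 ⟨_, mem_interV.2 ⟨y, hy, rfl⟩, rfl⟩
  have := Nat.mul_le_mul hbig hI
  omega

end Normal

theorem IsPair.card_centQ_lt {s g : G} (P : IsPair z s g) (D : Data0 z Q π) (hwc : WClosed z Q) :
    Nat.card (centQ Q s) < 64 := by
  by_contra! h
  obtain ⟨c, hc, i, j, N⟩ := P.exists_normal D hwc
  rw [P.card_centQ_conj D hc] at h
  have hi : i < 2 := by rcases N.kind with h' | h' | h' <;> omega
  by_cases h1 : Nat.card (interQ Q (c * g)) = 1
  · exact N.small_trivial hwc hi h1
  by_cases hz : phiZ (repKb i) (repX i j) = true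
  · exact N.small_fixed hwc hi h1 hz
  · exact N.small_pair hwc hi h1 (by simpa using hz)

end CfsgLib.CoOneReduce
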